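import Groth.Agent.SGA4h.K252.IntMain
import Groth.Agent.SGA4h.K557.WeakEt
import Groth.Agent.Etrest.StrictLocInt
import Groth.Agent.Etcore.SepClosedRed
import Groth.Agent.Etbc.H188.ZDBase
import Groth.Agent.Sga4h.H961.NNRR

/-!
# Base change along integral morphisms from restrictions to closed fibres

`f : X ⟶ S` qcqs, `F` an abelian étale sheaf on `X`, `σ : Spec R ⟶ S`, `R` henselian local.
* `HypN f F σ`: for `C` the integral closure of `R` in any separably closed field the restriction of
  `H^q(X ×_S C, F)` to the fibre at the closed point of `C` is bijective;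
* `cf_of_hypN`: then restriction to the closed fibre is bijective for all integral `T ⟶ Spec R`;
* `isIso_bq_of_hypN`: base change maps along integral morphisms are isomorphisms;
* `isIso_bq_geomPt`: base change map at the closed point of `R`.
-/

set_option autoImplicit false
universe u
open CategoryTheory CategoryTheory.Limits AlgebraicGeometry Opposite IsLocalRing

noncomputable section

namespace K252.IntApp

open EtCoh K252.HpTools K252.IntRel K252.IntVan K252.IntInj K252.IntMain Groth.Agent.Etcore.HpullCalc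
  K557.BcQ K557.WeakEt Groth.Agent.Etrest.StrictLoc
open scoped Groth.Agent.Sga4B.EtAbInst Groth.Agent.Etcore.EtInst

theorem isIntegralHom_nm (R : Type u) [CommRing R] (Ω : Type u) [Field Ω] [Algebra R Ω] :
    IsIntegralHom (nm R Ω) :=
  (IsIntegralHom.SpecMap_iff (φ := CommRingCat.ofHom (algebraMap R (integralClosure R Ω)))).2
    (algebraMap_isIntegral_iff.2 inferInstance)

section hyp

variable {X S : Scheme.{u}} (f : X ⟶ S) (F : EtCoh.Ab X) {R : Type u} [CommRing R] [IsLocalRing R]
  (σ : Spec (CommRingCat.of R) ⟶ S)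

/-- Restriction to the closed fibre over normalizations of `Spec R` in separably closed fields is bijective. -/
def HypN : Prop := ∀ (Ω : Type u) [Field Ω] [IsSepClosed Ω] [Algebra R Ω]
   (s' : ↥(Spec (CommRingCat.of ↥(integralClosure R Ω)))) (_ : (nm R Ω) s' = closedPoint R) (q : ℕ),
   Bij (pullback.fst (pullback.snd f (nm R Ω ≫ σ))
      ((Spec (CommRingCat.of ↥(integralClosure R Ω))).fromSpecResidueField s'))
    ((pull (pullback.fst f (nm R Ω ≫ σ))).obj F) q

variable {f F σ}

theorem cf_of_hypN [QuasiCompact f] [QuasiSeparated f] (hR : HenselianLocalRing R) (hN : HypN f F σ)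
    {P : Scheme.{u}} {a : P ⟶ X}
    {b : P ⟶ Spec (CommRingCat.of R)} (H : IsPullback a b f σ) {T Y : Scheme.{u}}
    (t : T ⟶ Spec (CommRingCat.of R)) [IsIntegralHom t] (p : Y ⟶ P) (r : Y ⟶ T) (h : IsPullback p r b t) :
    CF (r ≫ t) ((pull p).obj ((pull a).obj F)) := by
  have i1 : QuasiCompact b := MorphismProperty.of_isPullback H ‹_›
  have i2 : QuasiSeparated b := MorphismProperty.of_isPullback H ‹_›
  refine cf_of_sepClosed b ((pull a).obj F) ?_ t p r h
  intro Ω _ _ _ Y p r h
  have hC : Algebra.IsIntegral R (integralClosure R Ω) := inferInstance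
  have hl : IsLocalRing (integralClosure R Ω) :=
    Groth.Agent.S0427.isLocalRing_of_isIntegral R (integralClosure R Ω)
  have hint : (algebraMap R (integralClosure R Ω)).IsIntegral := algebraMap_isIntegral_iff.2 hC
  let s' : ↥(Spec (CommRingCat.of ↥(integralClosure R Ω))) := closedPoint (integralClosure R Ω)
  have hs' : (nm R Ω) s' = closedPoint R := comap_closedPoint_of_isIntegral _ hint
  have hcl : IsClosed ({s'} : Set ↥(Spec (CommRingCat.of (integralClosure R Ω)))) :=
    isClosed_singleton_closedPoint _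
  have hj : IsClosedImmersion ((Spec (CommRingCat.of (integralClosure R Ω))).fromSpecResidueField s') :=
    isClosed_singleton_iff_isClosedImmersion.1 hcl
  have h1 := (cf_iff_of_local (algebraMap R (integralClosure R Ω)) hint
    (K := (Spec (CommRingCat.of (integralClosure R Ω))).residueField s')
    ((Spec (CommRingCat.of (integralClosure R Ω))).fromSpecResidueField s')
    (pullback.snd f (nm R Ω ≫ σ)) ((pull (pullback.fst f (nm R Ω ≫ σ))).obj F)).2 (hN Ω s' hs')
  have H1 : IsPullback (p ≫ a) r f (nm R Ω ≫ σ) := (h.flip.paste_vert H.flip).flip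
  let e := H1.isoIsPullback _ _ (IsPullback.of_hasPullback f (nm R Ω ≫ σ))
  have he1 : e.hom ≫ pullback.fst f (nm R Ω ≫ σ) = p ≫ a := by simp [e]
  have he2 : e.hom ≫ pullback.snd f (nm R Ω ≫ σ) = r := by simp [e]
  have h2 := CF.of_iso e.hom h1
  rw [← Category.assoc, he2] at h2
  exact h2.congr_sheaf ((EtCore.pullComp e.hom (pullback.fst f (nm R Ω ≫ σ))).symm.app F ≪≫
    (EtCore.pullCongr he1).app F ≪≫ (EtCore.pullComp p a).app F)

/-- The case `T = Spec R`. -/
theorem cf_of_hypN_self [QuasiCompact f] [QuasiSeparated f] (hR : HenselianLocalRing R) (hN : HypN f F σ)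
    {P : Scheme.{u}} {a : P ⟶ X}
    {b : P ⟶ Spec (CommRingCat.of R)} (H : IsPullback a b f σ) : CF b ((pull a).obj F) := by
  have h := cf_of_hypN hR hN H (𝟙 _) (𝟙 P) b (IsPullback.of_horiz_isIso ⟨by simp⟩)
  rw [Category.comp_id] at h
  obtain ⟨e⟩ := Groth.Agent.Sga4h.H961.NNRR.nonempty_pull_id ((pull a).obj F)
  exact h.congr_sheaf e

end hyp

section integral

/-- Strict localizations along integral morphisms. -/
theorem exists_over {S S₁ : Scheme.{u}} (g : S₁ ⟶ S) [IsIntegralHom g] {R : Type u} [CommRing R]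
    [IsLocalRing R] {σ : Spec (CommRingCat.of R) ⟶ S} (hσ : IsStrictLoc σ) (x₁ : S₁)
    (hx : g x₁ = σ (closedPoint R)) :
    ∃ (D : Type u) (_ : CommRing D) (_ : IsLocalRing D) (τ : Spec (CommRingCat.of D) ⟶ S₁)
      (α : R →+* D), IsStrictLoc τ ∧ IsLocalHom α ∧ α.IsIntegral ∧ spm α ≫ σ = τ ≫ g ∧
        τ (closedPoint D) = x₁ := by
  have hh : HenselianLocalRing R := hσ.henselian
  have hW := IsPullback.of_hasPullback g σ
  obtain ⟨y, hy1, hy2⟩ := Scheme.Pullback.exists_preimage_pullback (f := g) (g := σ) x₁ (closedPoint R) hx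
  let D : Type u := (pullback g σ).presheaf.stalk y
  let ι : Spec (CommRingCat.of D) ⟶ pullback g σ := (pullback g σ).fromSpecStalk y
  let α : R →+* D := (Spec.preimage (ι ≫ pullback.snd g σ)).hom
  have hα : spm α = ι ≫ pullback.snd g σ := Spec.map_preimage _
  have hιy : ι (closedPoint D) = y := Scheme.fromSpecStalk_closedPoint
  have hαl : IsLocalHom α := by
    rw [isLocalHom_iff_comap_closedPoint]
    have h1 : (spm α) (closedPoint D) = closedPoint R := by
      rw [hα]
      exact (congrArg (pullback.snd g σ) hιy).trans hy2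
    exact h1
  have hint : α.IsIntegral :=
    Groth.Agent.Etrest.StrictLocInt.isIntegral_stalk_of_isIntegralHom (pullback.snd g σ) y hy2 α hα
  refine ⟨D, inferInstance, inferInstance, ι ≫ pullback.fst g σ, α,
    Groth.Agent.Etrest.StrictLocBC.isStrictLoc_of_isPullback hσ hW
      (Groth.Agent.Etrest.StrictLocBC.isLocAt_fromSpecStalk _ y) α hint hα, hαl, hint, ?_, ?_⟩
  · rw [hα, Category.assoc, Category.assoc, pullback.condition]
  · exact (Scheme.Hom.comp_apply ι (pullback.fst g σ) _).trans ((congrArg (pullback.fst g σ) hιy).trans hy1)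

/-- `κ(R) → κ(D)` is purely inseparable for `R → D` local integral, `κ(R)` separably closed. -/
theorem isPurelyInseparable_residue {R D : Type u} [CommRing R] [IsLocalRing R] [CommRing D]
    [IsLocalRing D] (α : R →+* D) [IsLocalHom α] (hα : α.IsIntegral) [IsSepClosed (ResidueField R)] :
    @IsPurelyInseparable (ResidueField R) (ResidueField D) _ _ (ResidueField.map α).toAlgebra := by
  let _ : Algebra (ResidueField R) (ResidueField D) := (ResidueField.map α).toAlgebra
  have h1 : Algebra.IsIntegral (ResidueField R) (ResidueField D) := by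
    rw [← algebraMap_isIntegral_iff]
    have h2 : ((ResidueField.map α).comp (residue R)).IsIntegral := by
      rw [ResidueField.map_comp_residue]
      exact RingHom.IsIntegral.trans _ _ hα (RingHom.isIntegral_of_surjective _ residue_surjective)
    exact RingHom.IsIntegral.tower_top _ _ h2
  have h3 : Algebra.IsAlgebraic (ResidueField R) (ResidueField D) := inferInstance
  infer_instance

/-- Comparison of `H^q` over strictly local rings, from the closed fibres. -/
theorem bij_of_cf {R D : Type u} [CommRing R] [IsLocalRing R] [CommRing D]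
    [IsLocalRing D] (α : R →+* D) [IsLocalHom α] (hα : α.IsIntegral) [IsSepClosed (ResidueField R)]
    {P P' : Scheme.{u}} {b : P ⟶ Spec (CommRingCat.of R)} {b' : P' ⟶ Spec (CommRingCat.of D)} {k : P' ⟶ P}
    (H : IsPullback k b' b (spm α)) (G : EtCoh.Ab P) (h : CF b G) (h' : CF (b' ≫ spm α) ((pull k).obj G))
    (q : ℕ) : Bij k G q := by
  let _ : Algebra (ResidueField R) (ResidueField D) := (ResidueField.map α).toAlgebra
  have hpi : IsPurelyInseparable (ResidueField R) (ResidueField D) := isPurelyInseparable_residue α hα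
  have H1 := IsPullback.of_hasPullback b (kp R)
  have H2 := IsPullback.of_hasPullback b' (kp D)
  have h3 := (cf_iff_of_local α hα (kp D) b' ((pull k).obj G)).1 h' q
  have w0 : kp D ≫ spm α = spm (ResidueField.map α) ≫ kp R := resPt_spm α
  have w : (pullback.fst b' (kp D) ≫ k) ≫ b = (pullback.snd b' (kp D) ≫ spm (ResidueField.map α)) ≫ kp R := by
    rw [Category.assoc, H.w, ← Category.assoc, H2.w, Category.assoc, w0, Category.assoc]
  let ks := H1.lift (pullback.fst b' (kp D) ≫ k) (pullback.snd b' (kp D) ≫ spm (ResidueField.map α)) w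
  have H3 : IsPullback ks (pullback.snd b' (kp D)) (pullback.snd b (kp R)) (spm (ResidueField.map α)) := by
    refine IsPullback.of_right ?_ (H1.lift_snd _ _ _) H1
    rw [H1.lift_fst, ← w0]
    exact (H2.flip.paste_vert H.flip).flip
  obtain ⟨j1, j2, j3⟩ := Groth.Agent.Etcore.SepClosedRed.bc_spec (ResidueField R) (ResidueField D) H3
  exact (bij_square (H1.lift_fst _ _ _).symm G q h3 (h _ _ H1 q)).2 (bij_of_univHomeo ks _ q)

theorem isIso_bq_of_hypN {X S S₁ X₁ : Scheme.{u}} (f : X ⟶ S) [QuasiCompact f] [QuasiSeparated f]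
    (F : EtCoh.Ab X) {g : S₁ ⟶ S} [IsIntegralHom g] {f₁ : X₁ ⟶ S₁} {g₁ : X₁ ⟶ X}
    (hsq : IsPullback g₁ f₁ f g)
    (hN : ∀ (s : S) (R : Type u) [CommRing R] [IsLocalRing R] (σ : Spec (CommRingCat.of R) ⟶ S),
      IsStrictLoc σ → σ (closedPoint R) = s → HypN f F σ) (q : ℕ) : IsIso (bq hsq.w q F) := by
  have i1 : QuasiCompact f₁ := MorphismProperty.of_isPullback hsq ‹_›
  have i2 : QuasiSeparated f₁ := MorphismProperty.of_isPullback hsq ‹_›
  refine isIso_bq_of_forall hsq.w q F fun x₁ => ?_
  obtain ⟨R, _, _, σ, hσ, hσx⟩ := Groth.Agent.Sga1.UlaSL.exists_isStrictLoc S (g x₁)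
  obtain ⟨D, _, _, τ, α, hτ, hαl, hαi, hα, hτx⟩ := exists_over g hσ x₁ hσx.symm
  have H := IsPullback.of_hasPullback f σ
  have H' := IsPullback.of_hasPullback f₁ τ
  have w : (pullback.fst f₁ τ ≫ g₁) ≫ f = (pullback.snd f₁ τ ≫ spm α) ≫ σ := by
    rw [Category.assoc, hsq.w, ← Category.assoc, H'.w, Category.assoc, Category.assoc, hα]
  have Hk : IsPullback (H.lift _ _ w) (pullback.snd f₁ τ) (pullback.snd f σ) (spm α) := by
    refine IsPullback.of_right ?_ (H.lift_snd _ _ _) H
    rw [H.lift_fst, hα]
    exact (H'.flip.paste_vert hsq.flip).flip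
  refine ⟨R, D, inferInstance, inferInstance, inferInstance, inferInstance, σ, τ, α, _, _, _, _, _, _,
    H.lift _ _ w, hσ, hτ, hαl, hα, hτx, H, H', H.lift_fst _ _ _, H.lift_snd _ _ _, ?_⟩
  have i3 := hσ.sepClosed
  have i4 : IsIntegralHom (spm α) := (IsIntegralHom.SpecMap_iff (φ := CommRingCat.ofHom α)).2 hαi
  exact bij_of_cf α hαi Hk _ (cf_of_hypN_self hσ.henselian (hN _ R σ hσ hσx) H)
    (cf_of_hypN hσ.henselian (hN _ R σ hσ hσx) H (spm α) _ _ Hk) q

end integral

section geomPt

/-- The base change map at the closed point of a strict localization. -/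
theorem isIso_bq_geomPt {X S X' : Scheme.{u}} (f : X ⟶ S) [QuasiCompact f] [QuasiSeparated f]
    (F : EtCoh.Ab X) {R : Type u} [CommRing R] [IsLocalRing R] {σ : Spec (CommRingCat.of R) ⟶ S}
    (hσ : IsStrictLoc σ) (hN : HypN f F σ) {f' : X' ⟶ Spec (CommRingCat.of (ResidueField R))} {g' : X' ⟶ X}
    (hsq : IsPullback g' f' f (resPt R ≫ σ)) (q : ℕ) : IsIso (bq hsq.w q F) := by
  have i1 : QuasiCompact f' := MorphismProperty.of_isPullback hsq ‹_›
  have i2 : QuasiSeparated f' := MorphismProperty.of_isPullback hsq ‹_›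
  have i3 := hσ.sepClosed
  refine isIso_bq_of_forall hsq.w q F fun x => ?_
  have H := IsPullback.of_hasPullback f σ
  have w : g' ≫ f = (f' ≫ resPt R) ≫ σ := by rw [hsq.w, Category.assoc]
  have Hk : IsPullback (H.lift _ _ w) f' (pullback.snd f σ) (resPt R) := by
    refine IsPullback.of_right ?_ (H.lift_snd _ _ _) H
    rw [H.lift_fst]
    exact hsq
  refine ⟨R, ResidueField R, inferInstance, inferInstance, inferInstance, inferInstance, σ, 𝟙 _, residue R,
    _, _, _, _, 𝟙 _, f', H.lift _ _ w, hσ, Groth.Agent.Etbc.H188.ZDBase.isStrictLoc_id_field _,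
    inferInstance, by rw [Category.id_comp], ?_, H, IsPullback.of_horiz_isIso ⟨by simp⟩,
    by rw [H.lift_fst, Category.id_comp], H.lift_snd _ _ _, ?_⟩
  · exact Subsingleton.elim (α := PrimeSpectrum (ResidueField R)) _ _
  · exact cf_of_hypN_self hσ.henselian hN H _ _ Hk q

end geomPt

end K252.IntApp
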