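import Groth.Agent.SGA4h.K252.UlaBC

/-!
# Arbitrary base change from universal local acyclicity, finite base change and invariance of geometric fibres

`cf_glob`: restriction to closed fibres over strictly henselian rings over a qcqs base; `isIso_bq_of_ula`: all base change
maps are isomorphisms.
-/

set_option autoImplicit false
universe u
open CategoryTheory CategoryTheory.Limits AlgebraicGeometry Opposite IsLocalRing

noncomputable section

namespace K252.UlaGlob

open EtCoh K252.HpTools K252.IntMain K252.IntApp K252.FinBC K252.UlaBC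
  Groth.Agent.Etcore.HpullCalc Groth.Agent.Etcore K557.BcQ K557.WeakEt Groth.Agent.Etrest.StrictLoc
  Groth.Agent.Sga4h.UlaGood SGA4h
open scoped Groth.Agent.Sga4B.EtAbInst Groth.Agent.Etcore.EtInst

variable {X S : Scheme.{u}}

/-- The spectrum of a local ring maps to an affine open. -/
theorem exists_affine {C : Type u} [CommRing C] [IsLocalRing C] (γ : Spec (CommRingCat.of C) ⟶ S) :
    ∃ (W : Type u) (_ : CommRing W) (j : Spec (CommRingCat.of W) ⟶ S) (_ : IsOpenImmersion j)
      (δ : Spec (CommRingCat.of C) ⟶ Spec (CommRingCat.of W)), δ ≫ j = γ := by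
  obtain ⟨_, ⟨V, hV, rfl⟩, hxV, -⟩ := S.isBasis_affineOpens.exists_subset_of_mem_open
    (Set.mem_univ (γ (closedPoint C))) isOpen_univ
  have hV' : IsAffineOpen V := hV
  have hrange : Set.range γ ⊆ Set.range hV'.fromSpec := by
    have h1 : γ ⁻¹ᵁ V = ⊤ := Scheme.preimage_eq_top_of_closedPoint_mem γ hxV
    rintro _ ⟨x, rfl⟩
    have h2 : x ∈ γ ⁻¹ᵁ V := by rw [h1]; trivial
    rw [hV'.range_fromSpec]
    exact h2
  exact ⟨Γ(S, V), inferInstance, hV'.fromSpec, inferInstance, IsOpenImmersion.lift hV'.fromSpec γ hrange,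
    IsOpenImmersion.lift_fac hV'.fromSpec γ hrange⟩

theorem cf_glob {f : X ⟶ S} {F : EtCoh.Ab X} [QuasiCompact f] [QuasiSeparated f] [CompactSpace S]
    [QuasiSeparatedSpace S] (hU : IsULARel f F) (hB : FB f F) (hI : FI f F) {C : Type u} [CommRing C]
    [HenselianLocalRing C] [IsSepClosed (ResidueField C)] (γ : Spec (CommRingCat.of C) ⟶ S)
    {P : Scheme.{u}} {a : P ⟶ X} {b : P ⟶ Spec (CommRingCat.of C)} (H : IsPullback a b f γ) :
    CF b ((pull a).obj F) := by
  obtain ⟨W, _, j, hj, δ, hδ⟩ := exists_affine γ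
  have HV := IsPullback.of_hasPullback f j
  have i1 : QuasiCompact (pullback.snd f j) := MorphismProperty.of_isPullback HV ‹_›
  have i2 : QuasiSeparated (pullback.snd f j) := MorphismProperty.of_isPullback HV ‹_›
  have hU' := Groth.Agent.Sga4h.UlaRed.isULARel_baseChange hU HV
  have hB' := hB.restrict j HV
  have hI' := hI.baseChange HV
  have w : a ≫ f = (b ≫ δ) ≫ j := by rw [Category.assoc, hδ]; exact H.w
  have Hδ : IsPullback (HV.lift a (b ≫ δ) w) b (pullback.snd f j) δ := by
    refine IsPullback.of_right ?_ (HV.lift_snd _ _ _) HV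
    rw [HV.lift_fst, hδ]
    exact H
  have key : CF b ((pull (HV.lift a (b ≫ δ) w)).obj ((pull (pullback.fst f j)).obj F)) :=
    cf_main hU' hB' hI' δ Hδ
  exact key.congr_sheaf ((EtCore.pullComp (HV.lift a (b ≫ δ) w) (pullback.fst f j)).symm.app F ≪≫
    (EtCore.pullCongr (HV.lift_fst a (b ≫ δ) w)).app F)

/-- **All base change maps are isomorphisms.** -/
theorem isIso_bq_of_ula {f : X ⟶ S} {F : EtCoh.Ab X} [QuasiCompact f] [QuasiSeparated f] [CompactSpace S]
    [QuasiSeparatedSpace S] (hU : IsULARel f F) (hB : FB f F) (hI : FI f F) {S' X' : Scheme.{u}}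
    {g : S' ⟶ S} {f' : X' ⟶ S'} {g' : X' ⟶ X} (h : IsPullback g' f' f g) (q : ℕ) :
    IsIso (bq h.w q F) := by
  have i1 : QuasiCompact f' := MorphismProperty.of_isPullback h ‹_›
  have i2 : QuasiSeparated f' := MorphismProperty.of_isPullback h ‹_›
  refine isIso_bq_of_forall h.w q F fun x => ?_
  obtain ⟨A, _, _, σ, hσ, hσx⟩ := Groth.Agent.Sga1.UlaSL.exists_isStrictLoc S (g x)
  obtain ⟨C, _, _, τ, hτ, hτx⟩ := Groth.Agent.Sga1.UlaSL.exists_isStrictLoc S' x
  have hA1 := hσ.henselian
  have hA2 := hσ.sepClosed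
  have hC1 := hτ.henselian
  have hC2 := hτ.sepClosed
  obtain ⟨β, hβl, hβ⟩ := Groth.Agent.Etrest.VCBaseChange.exists_map hσ (τ ≫ g) (by
    rw [hσx, ← hτx]
    exact Scheme.Hom.comp_apply τ g _)
  have H := IsPullback.of_hasPullback f σ
  have H' := IsPullback.of_hasPullback f' τ
  have w : (pullback.fst f' τ ≫ g') ≫ f = (pullback.snd f' τ ≫ spm β) ≫ σ := by
    rw [Category.assoc, h.w, ← Category.assoc, H'.w, Category.assoc, Category.assoc, hβ]
  have Hk : IsPullback (H.lift _ _ w) (pullback.snd f' τ) (pullback.snd f σ) (spm β) := by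
    refine IsPullback.of_right ?_ (H.lift_snd _ _ _) H
    rw [H.lift_fst, hβ]
    exact (H'.flip.paste_vert h.flip).flip
  refine ⟨A, C, inferInstance, inferInstance, inferInstance, inferInstance, σ, τ, β, _, _, _, _, _, _,
    H.lift _ _ w, hσ, hτ, hβl, hβ, hτx, H, H', H.lift_fst _ _ _, H.lift_snd _ _ _, ?_⟩
  -- the closed fibres
  have H1 := IsPullback.of_hasPullback (pullback.snd f σ) (kp A)
  have H2 := IsPullback.of_hasPullback (pullback.snd f' τ) (kp C)
  have w0 : kp C ≫ spm β = spm (ResidueField.map β) ≫ kp A := resPt_spm β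
  have w' : (pullback.fst (pullback.snd f' τ) (kp C) ≫ H.lift _ _ w) ≫ pullback.snd f σ =
      (pullback.snd (pullback.snd f' τ) (kp C) ≫ spm (ResidueField.map β)) ≫ kp A := by
    rw [Category.assoc, Hk.w, ← Category.assoc, H2.w, Category.assoc, w0, Category.assoc]
  have H3 : IsPullback (H1.lift _ _ w') (pullback.snd (pullback.snd f' τ) (kp C))
      (pullback.snd (pullback.snd f σ) (kp A)) (spm (ResidueField.map β)) := by
    refine IsPullback.of_right ?_ (H1.lift_snd _ _ _) H1
    rw [H1.lift_fst, ← w0]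
    exact (H2.flip.paste_vert Hk.flip).flip
  have c1 : CF (pullback.snd f σ) ((pull (pullback.fst f σ)).obj F) := cf_glob hU hB hI σ H
  have H4 : IsPullback (H.lift _ _ w ≫ pullback.fst f σ) (pullback.snd f' τ) f (spm β ≫ σ) :=
    (Hk.flip.paste_vert H.flip).flip
  have c2 : CF (pullback.snd f' τ) ((pull (H.lift _ _ w ≫ pullback.fst f σ)).obj F) :=
    cf_glob hU hB hI (spm β ≫ σ) H4
  have c3 := c2.congr_sheaf ((EtCore.pullComp (H.lift _ _ w) (pullback.fst f σ)).app F)
  have H5 : IsPullback (pullback.fst (pullback.snd f σ) (kp A) ≫ pullback.fst f σ)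
      (pullback.snd (pullback.snd f σ) (kp A)) f (kp A ≫ σ) := (H1.flip.paste_vert H.flip).flip
  have c4 := hI (ResidueField A) (ResidueField C) (kp A ≫ σ) (spm (ResidueField.map β)) _ _ H5 _ _ H3
  have c5 : HI (H1.lift _ _ w') ((pull (pullback.fst (pullback.snd f σ) (kp A))).obj
    ((pull (pullback.fst f σ)).obj F)) := (HI.pull_pull rfl).2 c4
  exact (bij_square (H1.lift_fst _ _ w').symm ((pull (pullback.fst f σ)).obj F) q
    (c3 _ _ H2 q) (c1 _ _ H1 q)).2 (c5 q)

end K252.UlaGlob
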