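import Groth.Agent.Etcore.HpullCalc
import Groth.Agent.Sga4B.EtAbInst
import Groth.Agent.S0642

/-!
# Bijectivity of pullback maps on cohomology: compositions, isomorphisms, universal homeomorphisms
-/

set_option autoImplicit false
universe u
open CategoryTheory CategoryTheory.Limits AlgebraicGeometry Opposite

noncomputable section

namespace K252.HpTools

open EtCoh Groth.Agent.Etcore.HpullCalc Groth.Agent.Etcore.EtInst
open scoped Groth.Agent.Sga4B.EtAbInst Groth.Agent.Etcore.EtInst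

variable {X Y Z : Scheme.{u}}

/-- `H^q(Y, G) → H^q(X, f⁻¹ G)` is bijective. -/
def Bij (f : X ⟶ Y) (G : EtCoh.Ab Y) (q : ℕ) : Prop := Function.Bijective (hp f G q)

theorem bij_iff (f : X ⟶ Y) [PreservesFiniteLimits (EtCoh.pull f)] (G : EtCoh.Ab Y) (q : ℕ) :
    Bij f G q ↔ Function.Bijective (EtCore.Hpull f G q) := Iff.rfl

theorem Bij.congr_sheaf {f : X ⟶ Y} {G G' : EtCoh.Ab Y} (e : G ≅ G') {q : ℕ} (h : Bij f G q) :
    Bij f G' q := by
  have h1 : ⇑(hp f G' q) ∘ ⇑(HHmap e.hom q) = ⇑(HHmap ((pull f).map e.hom) q) ∘ ⇑(hp f G q) :=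
    funext fun x => hp_map f e.hom q x
  have h2 : Function.Bijective (⇑(hp f G' q) ∘ ⇑(HHmap e.hom q)) := by
    rw [h1]
    exact (HHmap_bijective _ q).comp h
  exact (Function.Bijective.of_comp_iff _ (HHmap_bijective e.hom q)).1 h2

theorem comp_eq (f : X ⟶ Y) (g : Y ⟶ Z) (G : EtCoh.Ab Z) (q : ℕ) :
    ⇑(hp f ((pull g).obj G) q) ∘ ⇑(hp g G q) =
      ⇑(HHmap ((EtCore.pullComp f g).hom.app G) q) ∘ ⇑(hp (f ≫ g) G q) :=
  funext fun x => hp_comp f g G q x

/-- Given `g`: `f ≫ g` iff `f`. -/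
theorem bij_comp_iff (f : X ⟶ Y) (g : Y ⟶ Z) (G : EtCoh.Ab Z) (q : ℕ) (hg : Bij g G q) :
    Bij (f ≫ g) G q ↔ Bij f ((pull g).obj G) q := by
  have h1 := comp_eq f g G q
  have h2 : Bij f ((pull g).obj G) q ↔ Function.Bijective (⇑(hp f ((pull g).obj G) q) ∘ ⇑(hp g G q)) :=
    (Function.Bijective.of_comp_iff _ hg).symm
  rw [h2, h1]
  exact (Function.Bijective.of_comp_iff' (HHmap_bijective _ q) _).symm

/-- Given `f`: `f ≫ g` iff `g`. -/
theorem bij_comp_iff' (f : X ⟶ Y) (g : Y ⟶ Z) (G : EtCoh.Ab Z) (q : ℕ)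
    (hf : Bij f ((pull g).obj G) q) : Bij (f ≫ g) G q ↔ Bij g G q := by
  have h1 := comp_eq f g G q
  have h2 : Bij g G q ↔ Function.Bijective (⇑(hp f ((pull g).obj G) q) ∘ ⇑(hp g G q)) :=
    (Function.Bijective.of_comp_iff' hf _).symm
  rw [h2, h1]
  exact (Function.Bijective.of_comp_iff' (HHmap_bijective _ q) _).symm

theorem bij_of_univHomeo (f : X ⟶ Y) [IsIntegralHom f] [UniversallyInjective f] [Surjective f]
    (G : EtCoh.Ab Y) (q : ℕ) : Bij f G q := Groth.Agent.S0642.result f G q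

theorem bij_of_isIso (f : X ⟶ Y) [IsIso f] (G : EtCoh.Ab Y) (q : ℕ) : Bij f G q :=
  bij_of_univHomeo f G q

theorem bij_congr {f f' : X ⟶ Y} (h : f = f') (G : EtCoh.Ab Y) (q : ℕ) : Bij f G q ↔ Bij f' G q := by
  subst h
  rfl

/-- In a commutative square with two opposite sides bijective, the other two are equivalent. -/
theorem bij_square {Y' : Scheme.{u}} {f : X ⟶ Y} {g : Y ⟶ Z} {f' : X ⟶ Y'} {g' : Y' ⟶ Z}
    (w : f ≫ g = f' ≫ g') (G : EtCoh.Ab Z) (q : ℕ) (hf : Bij f ((pull g).obj G) q) (hg : Bij g' G q) :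
    Bij g G q ↔ Bij f' ((pull g').obj G) q := by
  rw [← bij_comp_iff' f g G q hf, bij_congr w, bij_comp_iff f' g' G q hg]

end K252.HpTools
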