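import Groth.Agent.Etcore.LimEt
import Groth.Agent.Etcore.PullbackLim
import Groth.Agent.Sga4h.NcTransferB
import Groth.Agent.Sga4h.SLocLim817
import Groth.Agent.SGA4h.K252.HpTools

/-!
# Bijectivity of pullback maps on cohomology passes to limits

* `bij_of_stages`: `T = lim T_a` (affine transition maps) over `S`, `f : X ⟶ S` qcqs: if
  `H^n(X, G) → H^n(X ×_S T_a, G)` is bijective for all `a` then so is `H^n(X, G) → H^n(X ×_S T, G)`;
* `bij_of_strictLoc_stages`: strict localizations of the limit and of the stages, relative to a strict localization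
  of a scheme under the system.
-/

set_option autoImplicit false
universe u
open CategoryTheory CategoryTheory.Limits AlgebraicGeometry Opposite IsLocalRing

noncomputable section

namespace K252.IntLim

open EtCoh K252.HpTools Groth.Agent.Etcore Groth.Agent.Etcore.HpullCalc Groth.Agent.Etcore.EtInst
  Groth.Agent.Etrest.StrictLoc Groth.Agent.Sga4h.SLocLim817
open scoped Groth.Agent.Etcore.EtInst

section stages

variable {ι : Type u} [Preorder ι] [IsDirected ι (· ≤ ·)] [Nonempty ι] (T : ιᵒᵖ ⥤ Scheme.{u})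
  {S X : Scheme.{u}} (τ : ∀ a : ιᵒᵖ, T.obj a ⟶ S)
  (hτ : ∀ ⦃a b : ιᵒᵖ⦄ (h : a ⟶ b), T.map h ≫ τ b = τ a) (f : X ⟶ S)

include hτ in
theorem bij_of_stages [QuasiCompact f] [QuasiSeparated f]
    (haff : ∀ ⦃a b : ιᵒᵖ⦄ (h : a ⟶ b), IsAffineHom (T.map h))
    (hqc : ∀ a, CompactSpace (T.obj a)) (hqs : ∀ a, QuasiSeparatedSpace (T.obj a))
    (c : Cone T) (hc : IsLimit c) (t : c.pt ⟶ S) (ht : ∀ a, c.π.app a ≫ τ a = t)
    (G : EtCoh.Ab X) (n : ℕ) (h : ∀ a, Bij (pullback.fst f (τ a)) G n) :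
    Bij (pullback.fst f t) G n := by
  let D : ιᵒᵖ ⥤ Scheme.{u} := PullbackLim.sys T τ hτ f
  let p : ∀ a, pullback f t ⟶ D.obj a := fun a => PullbackLim.proj T τ f c t ht a
  have hpp : ∀ {x y : ιᵒᵖ} (g : x ⟶ y), p x ≫ D.map g = p y := fun g =>
    PullbackLim.proj_mapp T τ hτ f c t ht g
  have hc' : IsLimit (LimDeg0.coneOf p hpp) := PullbackLim.isLimitCone T τ hτ f c t ht hc
  let s : ∀ a, D.obj a ⟶ X := fun a => pullback.fst f (τ a)
  have hs : ∀ {x y : ιᵒᵖ} (g : x ⟶ y), D.map g ≫ s y = s x := fun g =>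
    PullbackLim.mapp_fst T τ hτ f g
  have hq : ∀ a, p a ≫ s a = pullback.fst f t := fun a => PullbackLim.proj_fst T τ f c t ht a
  have i1 : ∀ {i j : ιᵒᵖ} (g : i ⟶ j), IsAffineHom (D.map g) := fun g =>
    PullbackLim.isAffineHom_mapp T τ hτ f haff g
  have i2 : ∀ a, CompactSpace (D.obj a) := fun a => PullbackLim.compactSpace_obj T τ hτ f a
  have i3 : ∀ a, QuasiSeparatedSpace (D.obj a) := fun a =>
    PullbackLim.quasiSeparatedSpace_obj T τ hτ f a
  constructor
  · rw [injective_iff_map_eq_zero]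
    intro y hy
    let a : ιᵒᵖ := op (Classical.arbitrary ι)
    have h1 : hpVia (p a) (s a) (pullback.fst f t) (hq a) G n (hp (s a) G n y) = 0 := by
      rw [hpVia_hp]
      exact hy
    obtain ⟨b, g, hg⟩ := LimEt.exists_hp_eq_zero p hpp hc' s hs hq G n a _ h1
    have h2 : hp (s b) G n y = 0 :=
      (Groth.Agent.Sga4h.NcTransfer.hp_comp_eq_zero_iff (D.map g) (s a) (s b) (hs g) G n y).1 hg
    exact (injective_iff_map_eq_zero _).1 (h b).1 y h2
  · intro ξ
    obtain ⟨a, x, hx⟩ := LimEt.exists_hpVia_eq p hpp hc' s hs hq G n ξ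
    obtain ⟨y, hy⟩ := (h a).2 x
    refine ⟨y, ?_⟩
    rw [← hx, ← hy]
    exact (hpVia_hp (p a) (s a) (pullback.fst f t) (hq a) G n y).symm

end stages

section strictLoc

variable {ι : Type u} [Preorder ι] [IsDirected ι (· ≤ ·)] [Nonempty ι] (T : ιᵒᵖ ⥤ Scheme.{u})
  {S X : Scheme.{u}} (τ : ∀ a : ιᵒᵖ, T.obj a ⟶ S)
  (hτ : ∀ ⦃a b : ιᵒᵖ⦄ (h : a ⟶ b), T.map h ≫ τ b = τ a)

include hτ in
/-- `σ : Spec A ⟶ S` and `ξ : Spec C ⟶ T` strict localizations, `β : A → C` local over `S`, `T = lim T_a`: comparison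
for all strict localizations `Spec R ⟶ T_a` implies comparison for `β`. -/
theorem bij_of_strictLoc_stages {A C : Type u} [CommRing A] [IsLocalRing A] [CommRing C] [IsLocalRing C]
    {σ : Spec (CommRingCat.of A) ⟶ S} (hσ : IsStrictLoc σ) {P : Scheme.{u}}
    (f : P ⟶ Spec (CommRingCat.of A)) [QuasiCompact f] [QuasiSeparated f]
    (c : Cone T) (hc : IsLimit c) (t : c.pt ⟶ S) (ht : ∀ a, c.π.app a ≫ τ a = t)
    {ξ : Spec (CommRingCat.of C) ⟶ c.pt} (hξ : IsStrictLoc ξ) (β : A →+* C) [IsLocalHom β]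
    (hβ : spm β ≫ σ = ξ ≫ t)
    (G : EtCoh.Ab P) (n : ℕ)
    (h : ∀ (a : ιᵒᵖ) (R : Type u) [CommRing R] [IsLocalRing R] (ρ : Spec (CommRingCat.of R) ⟶ T.obj a)
      (b : A →+* R), IsStrictLoc ρ → IsLocalHom b → spm b ≫ σ = ρ ≫ τ a →
      Bij (pullback.fst f (spm b)) G n) :
    Bij (pullback.fst f (spm β)) G n := by
  have hs : ∀ j : ι, Nonempty (Stage T c ξ j) := fun j => exists_stage T c hξ j
  let s : ∀ j : ι, Stage T c ξ j := fun j => (hs j).some
  obtain ⟨hcol⟩ := isColimit_system T hc hξ s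
  -- the maps `A → R_j`
  have hA := hσ.henselian
  have hC := hξ.henselian
  have ex : ∀ j : ι, ∃ b : A →+* (s j).R, IsLocalHom b ∧ spm b ≫ σ = (s j).p ≫ τ (op j) ∧
      (s j).g.comp b = β := by
    intro j
    have := (s j).hp.henselian
    have := (s j).hp.sepClosed
    refine Groth.Agent.Etrest.VCBaseChange.exists_map_over hσ ((s j).p ≫ τ (op j)) (s j).g β ?_
    rw [hβ, ← Category.assoc, (s j).hg, Category.assoc, ht]
  choose b hb1 hb2 hb3 using ex
  have hcomp : ∀ {i j : ι} (g : i ⟶ j), (tr T c hξ s g).comp (b i) = b j := by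
    intro i j g
    have h1 := tr_isLocalHom T c hξ s g
    have h2 := (s j).hp.henselian
    have h3 := hb1 i
    have h4 := hb1 j
    refine hom_unique hσ (s j).g _ _ ?_ ?_
    · rw [spm_comp, Category.assoc, hb2, hb2, ← Category.assoc, tr_spm, Category.assoc, hτ]
    · rw [← RingHom.comp_assoc, tr_g, hb3, hb3]
  let F := system T c hξ s
  refine bij_of_stages (PullbackLim.specSys F) (fun a => spm (b a.unop)) ?_ f
    (fun a b h => PullbackLim.isAffineHom_specSys F h) ?_ ?_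
    (PullbackLim.specCone F (systemCocone T c hξ s))
    (PullbackLim.isLimitSpecCone F (systemCocone T c hξ s) hcol) (spm β) ?_ G n ?_
  · intro x y g
    change Spec.map (F.map g.unop) ≫ spm (b y.unop) = spm (b x.unop)
    change spm (tr T c hξ s g.unop) ≫ spm (b y.unop) = spm (b x.unop)
    rw [← spm_comp, hcomp]
  · intro a
    have := PullbackLim.isAffine_specSys F a
    infer_instance
  · intro a
    have := PullbackLim.isAffine_specSys F a
    infer_instance
  · intro a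
    change spm (s a.unop).g ≫ spm (b a.unop) = spm β
    rw [← spm_comp, hb3]
  · intro a
    exact h a (s a.unop).R (s a.unop).p (b a.unop) (s a.unop).hp (hb1 _) (hb2 _)

end strictLoc

end K252.IntLim
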