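import Groth.Agent.SGA4h.K252.IntApp
import Groth.Agent.SGA4h.K252.IntLim
import Groth.Agent.Etcore.FGLim
import Groth.Agent.Sga4h.SLocTrans88
import Groth.Agent.Sga4h.UlaTower867
import Groth.Agent.Pi1C.StrictHensConn
import Groth.Agent.S0385

/-!
# Finite base change

* `FB f F`: the base change maps of `R^q f_* F` along all finite morphisms are isomorphisms; `IB f F`: the same for
  integral morphisms;
* `FB.restrict`: restriction to a quasi-compact open subscheme of the base;
* `FB.ib`: `FB → IB` over an affine base;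
* `cf_of_fb`: if `FB f F` then restriction to the closed fibre is bijective over all strict localizations of the (affine)
  base.
-/

set_option autoImplicit false
universe u
open CategoryTheory CategoryTheory.Limits AlgebraicGeometry Opposite IsLocalRing

noncomputable section

namespace K252.FinBC

open EtCoh K252.HpTools K252.IntRel K252.IntVan K252.IntInj K252.IntMain K252.IntApp K252.IntLim
  Groth.Agent.Etcore.HpullCalc Groth.Agent.Etcore K557.BcQ K557.WeakEt Groth.Agent.Etrest.StrictLoc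
open scoped Groth.Agent.Sga4B.EtAbInst Groth.Agent.Etcore.EtInst

variable {X S : Scheme.{u}}

/-- Base change along finite morphisms. -/
def FB (f : X ⟶ S) (F : EtCoh.Ab X) : Prop :=
  ∀ ⦃T Y : Scheme.{u}⦄ (t : T ⟶ S) [IsFinite t] (p : Y ⟶ X) (r : Y ⟶ T) (h : IsPullback p r f t) (q : ℕ),
    IsIso (bq h.w q F)

/-- Base change along integral morphisms. -/
def IB (f : X ⟶ S) (F : EtCoh.Ab X) : Prop :=
  ∀ ⦃T Y : Scheme.{u}⦄ (t : T ⟶ S) [IsIntegralHom t] (p : Y ⟶ X) (r : Y ⟶ T) (h : IsPullback p r f t)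
    (q : ℕ), IsIso (bq h.w q F)

theorem IB.fb {f : X ⟶ S} {F : EtCoh.Ab X} (h : IB f F) : FB f F :=
  fun _ _ t _ p r sq q => h t p r sq q

theorem isIso_bq_congr {Y T : Scheme.{u}} {f : X ⟶ S} {t₁ t₂ : T ⟶ S} (ht : t₁ = t₂) {p₁ p₂ : Y ⟶ X}
    (hp : p₁ = p₂) {r : Y ⟶ T} (w₁ : p₁ ≫ f = r ≫ t₁) (w₂ : p₂ ≫ f = r ≫ t₂) (q : ℕ) (F : EtCoh.Ab X) :
    IsIso (bq w₁ q F) ↔ IsIso (bq w₂ q F) := by
  subst ht; subst hp; rfl

/-- `t = i ≫ π`, base change holds along `π` and `i` is weakly étale. -/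
theorem isIso_bq_of_factor {f : X ⟶ S} [QuasiCompact f] [QuasiSeparated f] {F : EtCoh.Ab X}
    {T T' Y Y' : Scheme.{u}} (i : T ⟶ T') (π : T' ⟶ S) [WeaklyEtale i]
    {p' : Y' ⟶ X} {r' : Y' ⟶ T'} (h' : IsPullback p' r' f π) (q : ℕ) (hb : IsIso (bq h'.w q F)) (t : T ⟶ S)
    (ht : i ≫ π = t)
    {p : Y ⟶ X} {r : Y ⟶ T} (h : IsPullback p r f t) : IsIso (bq h.w q F) := by
  subst ht
  have i1 : QuasiCompact r' := MorphismProperty.of_isPullback h' ‹_›
  have i2 : QuasiSeparated r' := MorphismProperty.of_isPullback h' ‹_›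
  have w : p ≫ f = (r ≫ i) ≫ π := by rw [Category.assoc]; exact h.w
  have hk : IsPullback (h'.lift p (r ≫ i) w) r r' i := by
    refine IsPullback.of_right ?_ (h'.lift_snd _ _ _) h'
    rw [h'.lift_fst]
    exact h
  have w' : (h'.lift p (r ≫ i) w ≫ p') ≫ f = r ≫ (i ≫ π) := by rw [h'.lift_fst]; exact h.w
  rw [isIso_bq_congr rfl (h'.lift_fst p (r ≫ i) w).symm h.w w']
  exact (isIso_bq_paste h'.w hk.w w' q F inferInstance).2 (isIso_bq_of_weaklyEtale hk q _)

/-- Stability under integral base change. -/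
theorem IB.baseChange {f : X ⟶ S} {F : EtCoh.Ab X} (hF : IB f F) {T Y : Scheme.{u}} (t : T ⟶ S)
    [IsIntegralHom t] {p : Y ⟶ X} {r : Y ⟶ T} (h : IsPullback p r f t) : IB r ((pull p).obj F) := by
  intro T' Y' t' _ p' r' h' q
  have h1 := h'.paste_horiz h
  have i1 := hF t p r h q
  have i2 : IsIso (bq h1.w q F) := hF (t' ≫ t) (p' ≫ p) r' h1 q
  exact (isIso_bq_paste h.w h'.w h1.w q F inferInstance).1 i2

/-- Restriction to a quasi-compact open subscheme of the base (Zariski's main theorem). -/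
theorem FB.restrict {f : X ⟶ S} {F : EtCoh.Ab X} [QuasiCompact f] [QuasiSeparated f] [CompactSpace S]
    [QuasiSeparatedSpace S] (hF : FB f F) {U XU : Scheme.{u}} (j : U ⟶ S) [IsOpenImmersion j]
    [CompactSpace U] {k : XU ⟶ X} {fU : XU ⟶ U} (H : IsPullback k fU f j) : FB fU ((pull k).obj F) := by
  intro T Y t _ p r h q
  have hT : CompactSpace T := QuasiCompact.compactSpace_of_compactSpace t
  have hqc : QuasiCompact (t ≫ j) := inferInstance
  obtain ⟨T', i, π, hi, -, hπ, hiπ⟩ := Groth.Agent.S0385.result (t ≫ j)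
  have h1 := h.paste_horiz H
  have hP := IsPullback.of_hasPullback f π
  have hw : WeaklyEtale i := inferInstance
  have h2 : IsIso (bq h1.w q F) := isIso_bq_of_factor i π hP q (hF π _ _ hP q) (t ≫ j) hiπ h1
  have hj : IsIso (bq H.w q F) := isIso_bq_of_weaklyEtale H q F
  exact (isIso_bq_paste H.w h.w h1.w q F inferInstance).1 h2

section affine

variable {W : Type u} [CommRing W]

/-- Spectra of integral algebras. -/
theorem FB.isIso_spec {f : X ⟶ Spec (CommRingCat.of W)} {F : EtCoh.Ab X} [QuasiCompact f]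
    [QuasiSeparated f] (hF : FB f F) (B : Type u) [CommRing B] [Algebra W B] [Algebra.IsIntegral W B]
    {Y : Scheme.{u}} (p : Y ⟶ X) (r : Y ⟶ Spec (CommRingCat.of B))
    (h : IsPullback p r f (spm (algebraMap W B))) (q : ℕ) : IsIso (bq h.w q F) := by
  have i1 : QuasiCompact r := MorphismProperty.of_isPullback h ‹_›
  have i2 : QuasiSeparated r := MorphismProperty.of_isPullback h ‹_›
  have hint : IsIntegralHom (spm (algebraMap W B)) :=
    (IsIntegralHom.SpecMap_iff (φ := CommRingCat.ofHom (algebraMap W B))).2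
      (algebraMap_isIntegral_iff.2 inferInstance)
  refine isIso_bq_of_forall h.w q F fun x₁ => ?_
  obtain ⟨A, _, _, σ, hσ, hσx⟩ :=
    Groth.Agent.Sga1.UlaSL.exists_isStrictLoc (Spec (CommRingCat.of W)) ((spm (algebraMap W B)) x₁)
  obtain ⟨C, _, _, ξ, β, hξ, hβl, hβi, hβ, hξx⟩ := exists_over (spm (algebraMap W B)) hσ x₁ hσx.symm
  have H := IsPullback.of_hasPullback f σ
  have H' := IsPullback.of_hasPullback r ξ
  have w : (pullback.fst r ξ ≫ p) ≫ f = (pullback.snd r ξ ≫ spm β) ≫ σ := by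
    rw [Category.assoc, h.w, ← Category.assoc, H'.w, Category.assoc, Category.assoc, hβ]
  have Hk : IsPullback (H.lift _ _ w) (pullback.snd r ξ) (pullback.snd f σ) (spm β) := by
    refine IsPullback.of_right ?_ (H.lift_snd _ _ _) H
    rw [H.lift_fst, hβ]
    exact (H'.flip.paste_vert h.flip).flip
  refine ⟨A, C, inferInstance, inferInstance, inferInstance, inferInstance, σ, ξ, β, _, _, _, _, _, _,
    H.lift _ _ w, hσ, hξ, hβl, hβ, hξx, H, H', H.lift_fst _ _ _, H.lift_snd _ _ _, ?_⟩
  -- reduce to the standard pullback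
  let G : EtCoh.Ab (pullback f σ) := (pull (pullback.fst f σ)).obj F
  suffices hmain : Bij (pullback.fst (pullback.snd f σ) (spm β)) G q by
    let e := Hk.isoIsPullback _ _ (IsPullback.of_hasPullback (pullback.snd f σ) (spm β))
    have he : e.hom ≫ pullback.fst (pullback.snd f σ) (spm β) = H.lift _ _ w := by simp [e]
    change Bij (H.lift _ _ w) G q
    rw [← bij_congr he, bij_comp_iff _ _ _ _ hmain]
    exact bij_of_isIso _ _ _
  -- the system of finite subalgebras
  let T := PullbackLim.specSys (FGLim.fgSys W B)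
  let c := PullbackLim.specCone (FGLim.fgSys W B) (FGLim.fgCocone W B)
  have hc : IsLimit c := PullbackLim.isLimitSpecCone _ _ (FGLim.isColimitFG W B)
  let τ : ∀ a : (FGLim.FGSub W B)ᵒᵖ, T.obj a ⟶ Spec (CommRingCat.of W) := fun a =>
    Spec.map (CommRingCat.ofHom (algebraMap W a.unop.1))
  have hτ : ∀ ⦃a b : (FGLim.FGSub W B)ᵒᵖ⦄ (g : a ⟶ b), T.map g ≫ τ b = τ a :=
    Groth.Agent.Sga4h.UlaTower867.gτ_w W B
  have ht : ∀ a, c.π.app a ≫ τ a = (spm (algebraMap W B) : c.pt ⟶ _) :=
    Groth.Agent.Sga4h.UlaTower867.gτ_π W B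
  refine bij_of_strictLoc_stages T τ hτ hσ (pullback.snd f σ) c hc (spm (algebraMap W B)) ht hξ β hβ G q ?_
  intro a R _ _ ρ b hρ hb hbρ
  have hfin : IsFinite (τ a) := by
    have h1 : Algebra.IsIntegral W a.unop.1 := Algebra.IsIntegral.of_injective a.unop.1.val Subtype.val_injective
    have h2 : Algebra.FiniteType W a.unop.1 := (Subalgebra.fg_iff_finiteType _).1 a.unop.2
    have h3 : Module.Finite W a.unop.1 := Algebra.IsIntegral.finite
    exact (IsFinite.SpecMap_iff _).2 (RingHom.finite_algebraMap.2 h3)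
  have hX := IsPullback.of_hasPullback f (τ a)
  have j1 : QuasiCompact (pullback.snd f (τ a)) := MorphismProperty.of_isPullback hX ‹_›
  have j2 : QuasiSeparated (pullback.snd f (τ a)) := MorphismProperty.of_isPullback hX ‹_›
  have hb1 : IsIso (bq hX.w q F) := hF (τ a) _ _ hX q
  have hK := IsPullback.of_hasPullback (pullback.snd f σ) (spm b)
  have w2 : (pullback.fst (pullback.snd f σ) (spm b) ≫ pullback.fst f σ) ≫ f =
      (pullback.snd (pullback.snd f σ) (spm b) ≫ ρ) ≫ τ a := by
    rw [Category.assoc, H.w, ← Category.assoc, hK.w, Category.assoc, Category.assoc, hbρ]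
  have hK2 : IsPullback (pullback.fst (pullback.snd f σ) (spm b) ≫ pullback.fst f σ)
      (pullback.snd (pullback.snd f σ) (spm b)) f (ρ ≫ τ a) := by
    rw [← hbρ]
    exact (hK.flip.paste_vert H.flip).flip
  have hR : IsPullback (hX.lift _ _ w2) (pullback.snd (pullback.snd f σ) (spm b))
      (pullback.snd f (τ a)) ρ := by
    refine IsPullback.of_right ?_ (hX.lift_snd _ _ _) hX
    rw [hX.lift_fst]
    exact hK2
  exact bijective_hp_of_isIso_bq hX.w q F hb1 hσ hρ b hbρ H hR (hX.lift_fst _ _ _).symm hK.w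

/-- Over an affine base, finite base change implies integral base change. -/
theorem FB.ib {f : X ⟶ Spec (CommRingCat.of W)} {F : EtCoh.Ab X} [QuasiCompact f] [QuasiSeparated f]
    (hF : FB f F) : IB f F := by
  intro T Y t _ p r h q
  have : IsAffine T := isAffine_of_isAffineHom t
  obtain ⟨φ, hφ⟩ : ∃ φ : W →+* Γ(T, ⊤), T.isoSpec.inv ≫ t = Spec.map (CommRingCat.ofHom φ) := by
    obtain ⟨ψ, hψ⟩ := Spec.map_surjective (T.isoSpec.inv ≫ t)
    exact ⟨ψ.hom, hψ.symm⟩
  let _ : Algebra W Γ(T, ⊤) := φ.toAlgebra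
  have hint : IsIntegralHom (Spec.map (CommRingCat.ofHom φ)) := by rw [← hφ]; infer_instance
  have : Algebra.IsIntegral W Γ(T, ⊤) := by
    rw [← algebraMap_isIntegral_iff]
    exact (IsIntegralHom.SpecMap_iff (φ := CommRingCat.ofHom φ)).1 hint
  have hP := IsPullback.of_hasPullback f (spm (algebraMap W Γ(T, ⊤)))
  refine isIso_bq_of_factor T.isoSpec.hom (spm (algebraMap W Γ(T, ⊤))) hP q
    (hF.isIso_spec Γ(T, ⊤) _ _ hP q) t ?_ h
  change T.isoSpec.hom ≫ Spec.map (CommRingCat.ofHom φ) = t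
  rw [← hφ, Iso.hom_inv_id_assoc]

end affine

section fibre

/-- Restriction to closed fibres and comparison over `R → D` local integral. -/
theorem bij_iff_fibre {R D : Type u} [CommRing R] [IsLocalRing R] [CommRing D]
    [IsLocalRing D] (α : R →+* D) [IsLocalHom α] (hα : α.IsIntegral) [IsSepClosed (ResidueField R)]
    {P P' W W' : Scheme.{u}} {b : P ⟶ Spec (CommRingCat.of R)} {b' : P' ⟶ Spec (CommRingCat.of D)} {k : P' ⟶ P}
    (H : IsPullback k b' b (spm α)) (G : EtCoh.Ab P) {i : W ⟶ P} {c : W ⟶ Spec (CommRingCat.of (ResidueField R))}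
    (H1 : IsPullback i c b (kp R)) {i' : W' ⟶ P'} {c' : W' ⟶ Spec (CommRingCat.of (ResidueField D))}
    (H2 : IsPullback i' c' b' (kp D)) (q : ℕ) (h : Bij i' ((pull k).obj G) q) : Bij k G q ↔ Bij i G q := by
  let _ : Algebra (ResidueField R) (ResidueField D) := (ResidueField.map α).toAlgebra
  have hpi : IsPurelyInseparable (ResidueField R) (ResidueField D) := isPurelyInseparable_residue α hα
  have w0 : kp D ≫ spm α = spm (ResidueField.map α) ≫ kp R := resPt_spm α
  have w : (i' ≫ k) ≫ b = (c' ≫ spm (ResidueField.map α)) ≫ kp R := by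
    rw [Category.assoc, H.w, ← Category.assoc, H2.w, Category.assoc, w0, Category.assoc]
  let ks := H1.lift (i' ≫ k) (c' ≫ spm (ResidueField.map α)) w
  have H3 : IsPullback ks c' c (spm (ResidueField.map α)) := by
    refine IsPullback.of_right ?_ (H1.lift_snd _ _ _) H1
    rw [H1.lift_fst, ← w0]
    exact (H2.flip.paste_vert H.flip).flip
  obtain ⟨j1, j2, j3⟩ := Groth.Agent.Etcore.SepClosedRed.bc_spec (ResidueField R) (ResidueField D) H3
  have e1 : ks ≫ i = i' ≫ k := H1.lift_fst _ _ _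
  rw [← bij_comp_iff' i' k G q h, ← bij_congr e1, bij_comp_iff' ks i G q (bij_of_univHomeo ks _ q)]

/-- A strict localization at the generic point of a closed subscheme. -/
theorem subsingleton_of_closed {S Z : Scheme.{u}} (g : Z ⟶ S) [IsClosedImmersion g] {D : Type u} [CommRing D]
    [IsLocalRing D] {τ : Spec (CommRingCat.of D) ⟶ Z} (hτ : IsStrictLoc τ)
    (hg : ∀ z : Z, g (τ (closedPoint D)) ⤳ g z) (y : PrimeSpectrum D) : y = closedPoint D := by
  obtain ⟨_, _, _, hCτ⟩ := Groth.Agent.Sga1.UlaSL.exists_specOf hτ (τ (closedPoint D)) rfl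
  refine Groth.Agent.Pi1C.StrictHensConn.eq_closedPoint_of_specOf_eq Z (τ (closedPoint D)) D y ?_
  rw [hCτ]
  have h1 : y ⤳ closedPoint D := IsLocalRing.specializes_closedPoint y
  have h2 : g (τ y) ⤳ g (τ (closedPoint D)) := (h1.map τ.continuous).map g.continuous
  exact g.isClosedEmbedding.injective (h2.antisymm (hg _)).eq

variable {W : Type u} [CommRing W]

/-- **Restriction to closed fibres over strict localizations**, from finite base change. -/
theorem cf_of_fb {f : X ⟶ Spec (CommRingCat.of W)} {F : EtCoh.Ab X} [QuasiCompact f] [QuasiSeparated f]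
    (hF : FB f F) {A : Type u} [CommRing A] [IsLocalRing A] {σ : Spec (CommRingCat.of A) ⟶ Spec (CommRingCat.of W)}
    (hσ : IsStrictLoc σ) {P : Scheme.{u}} {a : P ⟶ X} {b : P ⟶ Spec (CommRingCat.of A)}
    (H : IsPullback a b f σ) : CF b ((pull a).obj F) := by
  let 𝔭 : Ideal W := (show PrimeSpectrum W from σ (closedPoint A)).asIdeal
  have h𝔭 : 𝔭.IsPrime := (show PrimeSpectrum W from σ (closedPoint A)).isPrime
  let Z := Spec (CommRingCat.of (W ⧸ 𝔭))
  let g : Z ⟶ Spec (CommRingCat.of W) := spm (Ideal.Quotient.mk 𝔭)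
  have hg : IsClosedImmersion g := IsClosedImmersion.spec_of_surjective _ Ideal.Quotient.mk_surjective
  let η : Z := (⟨⊥, Ideal.isPrime_bot⟩ : PrimeSpectrum (W ⧸ 𝔭))
  have hη : g η = σ (closedPoint A) := by
    apply PrimeSpectrum.ext
    change Ideal.comap (Ideal.Quotient.mk 𝔭) ⊥ = 𝔭
    rw [← RingHom.ker_eq_comap_bot, Ideal.mk_ker]
  obtain ⟨D, _, _, τ, α, hτ, hαl, hαi, hα, hτη⟩ := exists_over g hσ η hη
  have hD : ∀ y : PrimeSpectrum D, y = closedPoint D := by
    refine subsingleton_of_closed g hτ ?_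
    intro z
    rw [hτη]
    refine Specializes.map ?_ g.continuous
    exact (PrimeSpectrum.le_iff_specializes (R := W ⧸ 𝔭) _ _).1 bot_le
  have hX := IsPullback.of_hasPullback f g
  have hb : IsIso (bq hX.w 0 F) := hF g _ _ hX 0
  have j1 : QuasiCompact (pullback.snd f g) := MorphismProperty.of_isPullback hX ‹_›
  have j2 : QuasiSeparated (pullback.snd f g) := MorphismProperty.of_isPullback hX ‹_›
  have H' := IsPullback.of_hasPullback (pullback.snd f g) τ
  have w : (pullback.fst (pullback.snd f g) τ ≫ pullback.fst f g) ≫ f =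
      (pullback.snd (pullback.snd f g) τ ≫ spm α) ≫ σ := by
    rw [Category.assoc, hX.w, ← Category.assoc, H'.w, Category.assoc, Category.assoc, hα]
  have Hk : IsPullback (H.lift _ _ w) (pullback.snd (pullback.snd f g) τ) b (spm α) := by
    refine IsPullback.of_right ?_ (H.lift_snd _ _ _) H
    rw [H.lift_fst, hα]
    exact (H'.flip.paste_vert hX.flip).flip
  have i3 := hσ.sepClosed
  have H2 := IsPullback.of_hasPullback (pullback.snd (pullback.snd f g) τ) (kp D)
  have hs : Surjective (kp D) := ⟨fun y => ⟨closedPoint (ResidueField D),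
    (PrimeSpectrum.comap_residue D _).trans (hD y).symm⟩⟩
  have k1 : IsClosedImmersion (pullback.fst (pullback.snd (pullback.snd f g) τ) (kp D)) :=
    MorphismProperty.of_isPullback H2.flip inferInstance
  have k2 : Surjective (pullback.fst (pullback.snd (pullback.snd f g) τ) (kp D)) :=
    MorphismProperty.of_isPullback H2.flip hs
  intro W' i c hi q
  refine (bij_iff_fibre α hαi Hk ((pull a).obj F) hi H2 q (bij_of_univHomeo _ _ q)).1 ?_
  exact bijective_hp_of_isIso_bq hX.w q F (hF g _ _ hX q) hσ hτ α hα H H' (H.lift_fst _ _ _)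
    (H.lift_snd _ _ _)

end fibre

end K252.FinBC
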