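import Groth.Agent.SGA4h.K252.IntInj
import Groth.Agent.Sga4h.AdmLoc202
import Groth.Agent.Sga4h.OpenClosed
import Mathlib.CategoryTheory.Limits.ConcreteCategory.WithAlgebraicStructures

/-!
# Restrictions to a directed family of closed subschemes

`z_j : Z_j ⟶ X` a directed (decreasing) family of closed subschemes, `z : Z ⟶ X` a closed subscheme containing the
intersection (as sets), `E` a functor commuting with filtered colimits, `ξ ∈ E(G)`: if `ξ` dies in
`E(z_* z⁻¹ G)` then it dies in some `E(z_{j*} z_j⁻¹ G)` (`exists_map_unit_eq_zero`).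
-/

set_option autoImplicit false
universe u
open CategoryTheory CategoryTheory.Limits AlgebraicGeometry Opposite

noncomputable section

namespace K252.IntColim

open K252.IntInj EtCoh
open scoped Groth.Agent.Sga4B.EtAbInst

section Closed

variable {X Z : Scheme.{u}} (z : Z ⟶ X) [IsClosedImmersion z] (G : EtCoh.Ab X)

/-- The unit `G ⟶ z_* z⁻¹ G`. -/
abbrev un : G ⟶ (pp z).obj G := (pullPushAdj z).unit.app G

theorem epi_un : Epi (un z G) := Groth.Agent.EtpbcA.ClosedEpi.epi_unit z G

theorem isZero_pull_kernel : IsZero ((pull z).obj (kernel (un z G))) := by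
  have h3 : IsIso ((EtCoh.pull z).map (un z G)) := Groth.Agent.EtpbcA.ClosedEpi.isIso_pull_unit z G
  refine IsZero.of_iso ?_ (PreservesKernel.iso (EtCoh.pull z) (un z G))
  exact isZero_kernel_of_mono _

theorem not_mem_supp_kernel (x : X) (hx : x ∈ Set.range z) : x ∉ EtPBC.supp (kernel (un z G)) := by
  obtain ⟨y, rfl⟩ := hx
  have h1 := Groth.Agent.EtpbcA.Artin.supp_eq_empty_of_isZero (isZero_pull_kernel z G) y
  rwa [Groth.Agent.EtpbcA.Artin.supp_pull] at h1

theorem isZero_pull_kernel' {W : Scheme.{u}} (w : W ⟶ X) (h : Set.range w ⊆ Set.range z) :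
    IsZero ((pull w).obj (kernel (un z G))) := by
  refine Groth.Agent.EtpbcA.Artin.isZero_of_forall _ fun x => ?_
  rw [Groth.Agent.EtpbcA.Artin.supp_pull]
  exact not_mem_supp_kernel z G _ (h ⟨x, rfl⟩)

theorem kernel_comp_eq_zero {W : Scheme.{u}} (w : W ⟶ X) (h : Set.range w ⊆ Set.range z)
    {H : EtCoh.Ab W} (φ : G ⟶ (push w).obj H) : kernel.ι (un z G) ≫ φ = 0 := by
  apply ((pullPushAdj w).homEquiv _ _).symm.injective
  exact (isZero_pull_kernel' z G w h).eq_of_src _ _

/-- Restriction from `Z` to a smaller closed subscheme. -/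
def tr {W : Scheme.{u}} (w : W ⟶ X) (h : Set.range w ⊆ Set.range z) : (pp z).obj G ⟶ (pp w).obj G :=
  have := epi_un z G
  Abelian.epiDesc (un z G) (un w G) (kernel_comp_eq_zero z G w h _)

@[reassoc]
theorem un_tr {W : Scheme.{u}} (w : W ⟶ X) (h : Set.range w ⊆ Set.range z) :
    un z G ≫ tr z G w h = un w G :=
  have := epi_un z G
  Abelian.comp_epiDesc _ _ _

end Closed

section Directed

variable {X : Scheme.{u}} {J : Type (u + 1)} [Preorder J] {Z : J → Scheme.{u}} (z : ∀ j, Z j ⟶ X)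
  [∀ j, IsClosedImmersion (z j)] (hz : ∀ j k, j ≤ k → Set.range (z k) ⊆ Set.range (z j))
  (G : EtCoh.Ab X)

/-- The diagram `j ↦ z_{j*} z_j⁻¹ G`. -/
def D : J ⥤ EtCoh.Ab X where
  obj j := (pp (z j)).obj G
  map {j k} a := tr (z j) G (z k) (hz j k (leOfHom a))
  map_id j := by
    have := epi_un (z j) G
    rw [← cancel_epi (un (z j) G), un_tr, Category.comp_id]
  map_comp {j k l} a b := by
    have := epi_un (z j) G
    rw [← cancel_epi (un (z j) G), un_tr, un_tr_assoc, un_tr]

/-- The coprojections. -/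
def inj (j : J) : (pp (z j)).obj G ⟶ colimit (D z hz G) := colimit.ι (D z hz G) j

theorem tr_inj {j k : J} (h : j ≤ k) :
    tr (z j) G (z k) (hz j k h) ≫ inj z hz G k = inj z hz G j := colimit.w (D z hz G) (homOfLE h)

theorem un_inj {j k : J} (h : j ≤ k) : un (z j) G ≫ inj z hz G j = un (z k) G ≫ inj z hz G k := by
  rw [← tr_inj z hz G h, un_tr_assoc]

variable [IsDirectedOrder J] [Nonempty J] {Z' : Scheme.{u}} (z' : Z' ⟶ X) [IsClosedImmersion z']
  (h' : ∀ x : X, (∀ j, x ∈ Set.range (z j)) → x ∈ Set.range z')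

include h' in
theorem kernel_comp_ι (j : J) :
    kernel.ι (un z' G) ≫ un (z j) G ≫ inj z hz G j = 0 := by
  let U : ∀ j, X.Opens := fun j => ⟨(Set.range (z j))ᶜ, (z j).isClosedEmbedding.isClosed_range.isOpen_compl⟩
  let π : ∀ o : Option J, (match o with | none => Z' | some j => (U j : Scheme.{u})) ⟶ X := fun o =>
    match o with
    | none => z'
    | some j => (U j).ι
  refine Groth.Agent.Sga4h.AdmLoc202.eq_zero_of_pull π (fun x => ?_) _ (fun o => ?_)
  · by_cases hx : ∀ j, x ∈ Set.range (z j)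
    · obtain ⟨y, hy⟩ := h' x hx
      exact ⟨none, y, hy⟩
    · rw [not_forall] at hx
      obtain ⟨k, hk⟩ := hx
      exact ⟨some k, ⟨x, hk⟩, rfl⟩
  · cases o with
    | none => exact (isZero_pull_kernel z' G).eq_of_src _ _
    | some k =>
      obtain ⟨l, hjl, hkl⟩ := exists_ge_ge j k
      rw [un_inj z hz G hjl]
      have h2 : IsZero ((pull (U k).ι).obj ((pp (z l)).obj G)) := by
        refine Groth.Agent.Sga4h.OpenClosed.isZero_pull_push (z l) (U k).ι (fun x hx => ?_) _
        have h3 : (U k).ι x ∈ U k := x.2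
        exact h3 (hz k l hkl hx)
      change (pull (U k).ι).map (kernel.ι (un z' G) ≫ un (z l) G ≫ inj z hz G l) = 0
      rw [Functor.map_comp, Functor.map_comp, h2.eq_of_tgt ((pull (U k).ι).map (un (z l) G)) 0,
        zero_comp, comp_zero]

include h' hz in
theorem exists_map_unit_eq_zero (E : EtCoh.Ab X ⥤ AddCommGrpCat.{u + 1})
    [PreservesColimitsOfShape J E] (ξ : E.obj G) (hξ : E.map (un z' G) ξ = 0) :
    ∃ j, E.map (un (z j) G) ξ = 0 := by
  obtain ⟨j⟩ := ‹Nonempty J›
  have := epi_un z' G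
  let s : (pp z').obj G ⟶ colimit (D z hz G) :=
    Abelian.epiDesc (un z' G) (un (z j) G ≫ inj z hz G j) (kernel_comp_ι z hz G z' h' j)
  have hs : un z' G ≫ s = un (z j) G ≫ inj z hz G j := Abelian.comp_epiDesc _ _ _
  have h1 : E.map (inj z hz G j) (E.map (un (z j) G) ξ) = 0 := by
    have h2 : E.map (un z' G ≫ s) ξ = E.map (un (z j) G ≫ inj z hz G j) ξ := by rw [hs]
    rw [E.map_comp, E.map_comp, ConcreteCategory.comp_apply, ConcreteCategory.comp_apply, hξ, map_zero] at h2
    exact h2.symm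
  have hc := isColimitOfPreserves E (colimit.isColimit (D z hz G))
  obtain ⟨k, f, g, h3⟩ := Concrete.isColimit_exists_of_rep_eq (D z hz G ⋙ E) hc
    (i := j) (j := j) (E.map (un (z j) G) ξ) 0 (h1.trans (map_zero _).symm)
  refine ⟨k, ?_⟩
  have h4 := un_tr (z j) G (z k) (hz j k (leOfHom f))
  rw [← h4, E.map_comp, ConcreteCategory.comp_apply]
  refine Eq.trans ?_ (h3.trans (map_zero _))
  rfl

end Directed

end K252.IntColim
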