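import Groth.Agent.Localalg.DeltaFun
import Groth.Agent.EtpbcB.IntegralBC
import Groth.Agent.Sga4h.H929.NExact
import Groth.Agent.Sga4B.EtAbInst

/-!
# Injectivity for integral surjective base change

`f : X ⟶ S`, `E` a delta functor on abelian étale sheaves on `X`, `G` a sheaf on `X`.  If
`E^i(p_* p⁻¹ G) = 0` for `i < q` and all base changes `p : X ×_S T ⟶ X` of integral `T ⟶ S`, then
`E^q(G) ⟶ E^q(π_* π⁻¹ G)` is a monomorphism for all base changes `π` of integral surjective `T₁ ⟶ S`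
(`mono_unit_map`).
-/

set_option autoImplicit false
universe u v v' u'
open CategoryTheory CategoryTheory.Limits AlgebraicGeometry Opposite

noncomputable section

namespace K252.IntInj

open Groth.Agent.Localalg.DeltaFun
open scoped Groth.Agent.Sga4B.EtAbInst

section Delta

variable {C : Type u} [Category.{v} C] [Abelian C] {D : Type u'} [Category.{v'} D] [Abelian D]
  (E : DeltaFunctor C D) {S : ShortComplex C} (hS : S.ShortExact)

include hS

theorem isZero₃ (n : ℕ) (h2 : IsZero ((E.T n).obj S.X₂)) (h1 : IsZero ((E.T (n + 1)).obj S.X₁)) :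
    IsZero ((E.T n).obj S.X₃) :=
  (E.exact₃ hS n).isZero_of_both_zeros (h2.eq_of_src _ _) (h1.eq_of_tgt _ _)

theorem isZero₁ (n : ℕ) (h3 : IsZero ((E.T n).obj S.X₃)) (h2 : IsZero ((E.T (n + 1)).obj S.X₂)) :
    IsZero ((E.T (n + 1)).obj S.X₁) :=
  (E.exact₁ hS n).isZero_of_both_zeros (h3.eq_of_src _ _) (h2.eq_of_tgt _ _)

theorem isZero₂ (n : ℕ) (h1 : IsZero ((E.T n).obj S.X₁)) (h3 : IsZero ((E.T n).obj S.X₃)) :
    IsZero ((E.T n).obj S.X₂) :=
  (E.exact₂ hS n).isZero_of_both_zeros (h1.eq_of_src _ _) (h3.eq_of_tgt _ _)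

theorem mono_succ (n : ℕ) (h3 : IsZero ((E.T n).obj S.X₃)) : Mono ((E.T (n + 1)).map S.f) :=
  (E.exact₁ hS n).mono_g (h3.eq_of_src _ _)

/-- If `E^{n+1}(X₁) ⟶ E^{n+1}(X₂)` is mono and `E^n(X₂) = 0` then `E^n(X₃) = 0`. -/
theorem isZero₃_of_mono (n : ℕ) (h2 : IsZero ((E.T n).obj S.X₂)) (h : Mono ((E.T (n + 1)).map S.f)) :
    IsZero ((E.T n).obj S.X₃) := by
  have h1 : E.δ hS n = 0 := by
    rw [← cancel_mono ((E.T (n + 1)).map S.f), E.zero₁, zero_comp]
  exact (E.exact₃ hS n).isZero_of_both_zeros (h2.eq_of_src _ _) h1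

end Delta

open EtCoh

variable {X Y : Scheme.{u}}

/-- `p_* p⁻¹`. -/
abbrev pp (p : Y ⟶ X) : EtCoh.Ab X ⥤ EtCoh.Ab X := EtCoh.pull p ⋙ EtCoh.push p

/-- `q_* p_* p⁻¹ q⁻¹ = (p ≫ q)_* (p ≫ q)⁻¹`. -/
theorem nonempty_pp_comp {Z : Scheme.{u}} (p : Z ⟶ Y) (q : Y ⟶ X) (G : EtCoh.Ab X) :
    Nonempty ((push q).obj ((pp p).obj ((pull q).obj G)) ≅ (pp (p ≫ q)).obj G) :=
  ⟨(pushComp q p).app _ ≪≫ (push (p ≫ q)).mapIso ((EtCore.pullComp p q).symm.app G)⟩

/-- Base change: `p_* p⁻¹ (π_* π⁻¹ G) = (π' ≫ p)_* (π' ≫ p)⁻¹ G`. -/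
theorem nonempty_pp_pp {Y₁ P : Scheme.{u}} (p : Y ⟶ X) (π : Y₁ ⟶ X) [IsIntegralHom π]
    (p' : P ⟶ Y₁) (π' : P ⟶ Y) (h : IsPullback p' π' π p) (G : EtCoh.Ab X) :
    Nonempty ((pp p).obj ((pp π).obj G) ≅ (pp (π' ≫ p)).obj G) := by
  have h1 : IsIso (baseChange0 π p π' p' h.w ((pull π).obj G)) :=
    Groth.Agent.EtpbcB.IntegralBC.isIso_baseChange0 π h _
  have e1 : (pull p').obj ((pull π).obj G) ≅ (pull π').obj ((pull p).obj G) :=
    (EtCore.pullComp p' π).symm.app G ≪≫ (EtCore.pullCongr h.w).app G ≪≫ (EtCore.pullComp π' p).app G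
  obtain ⟨e2⟩ := nonempty_pp_comp π' p G
  exact ⟨(push p).mapIso (asIso (baseChange0 π p π' p' h.w ((pull π).obj G)) ≪≫ (push π').mapIso e1) ≪≫ e2⟩

instance pp_pfl (p : Y ⟶ X) : PreservesFiniteLimits (pp p) := comp_preservesFiniteLimits _ _

theorem pp_pfc (p : Y ⟶ X) [IsIntegralHom p] : PreservesFiniteColimits (pp p) := by
  have := Groth.Agent.Sga4A.EtSplit.preservesFiniteColimits_push p
  exact comp_preservesFiniteColimits _ _

instance pp_additive (p : Y ⟶ X) : (pp p).Additive := inferInstance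

/-- `E^i(p_* p⁻¹ G) = 0` for `i < q` and all base changes `p` of integral morphisms. -/
def Van {S X : Scheme.{u}} (f : X ⟶ S) (E : DeltaFunctor (EtCoh.Ab X) AddCommGrpCat.{u + 1})
    (G : EtCoh.Ab X) (q : ℕ) : Prop :=
  ∀ ⦃T Y : Scheme.{u}⦄ (t : T ⟶ S) [IsIntegralHom t] (p : Y ⟶ X) (r : Y ⟶ T), IsPullback p r f t →
    ∀ i < q, IsZero ((E.T i).obj ((pp p).obj G))

theorem Van.pp_pp {S X : Scheme.{u}} {f : X ⟶ S} {E : DeltaFunctor (EtCoh.Ab X) AddCommGrpCat.{u + 1}}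
    {G : EtCoh.Ab X} {q : ℕ} (hG : Van f E G q) {T₁ Y₁ : Scheme.{u}} (t₁ : T₁ ⟶ S)
    [IsIntegralHom t₁] (π : Y₁ ⟶ X) (r₁ : Y₁ ⟶ T₁) (h₁ : IsPullback π r₁ f t₁)
    {T Y : Scheme.{u}} (t : T ⟶ S) [IsIntegralHom t] (p : Y ⟶ X) (r : Y ⟶ T) (h : IsPullback p r f t)
    (i : ℕ) (hi : i < q) : IsZero ((E.T i).obj ((pp p).obj ((pp π).obj G))) := by
  have hπ : IsIntegralHom π := MorphismProperty.of_isPullback h₁.flip inferInstance
  have hP := IsPullback.of_hasPullback π p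
  obtain ⟨e⟩ := nonempty_pp_pp p π _ _ hP G
  have h2 : IsPullback (pullback.fst π p ≫ r₁) (pullback.snd π p) t₁ (r ≫ t) := by
    rw [← h.w]
    exact hP.paste_horiz h₁.flip
  have hQ := IsPullback.of_hasPullback t₁ t
  have h4 : IsPullback (hQ.lift (pullback.fst π p ≫ r₁) (pullback.snd π p ≫ r)
      (by rw [Category.assoc, ← h₁.w, Category.assoc, ← h.w, hP.w_assoc]))
      (pullback.snd π p) (pullback.snd t₁ t) r := by
    refine IsPullback.of_right ?_ (hQ.lift_snd _ _ _) hQ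
    rw [hQ.lift_fst]
    exact h2
  exact (hG (pullback.snd t₁ t ≫ t) _ _ (h4.flip.paste_horiz h) i hi).of_iso ((E.T i).mapIso e)

theorem Van.cok {S X : Scheme.{u}} {f : X ⟶ S} {E : DeltaFunctor (EtCoh.Ab X) AddCommGrpCat.{u + 1}}
    {G : EtCoh.Ab X} {q : ℕ} (hG : Van f E G (q + 1)) {T₁ Y₁ : Scheme.{u}} (t₁ : T₁ ⟶ S)
    [IsIntegralHom t₁] (π : Y₁ ⟶ X) (r₁ : Y₁ ⟶ T₁)
    (h₁ : IsPullback π r₁ f t₁) {N : ShortComplex (EtCoh.Ab X)} (hS : N.ShortExact)
    (e₁ : N.X₁ ≅ G) (e₂ : N.X₂ ≅ (pp π).obj G) : Van f E N.X₃ q := by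
  intro T Y t _ p r h i hi
  have hp : IsIntegralHom p := MorphismProperty.of_isPullback h.flip inferInstance
  have := pp_pfc p
  exact isZero₃ E (hS.map_of_exact (pp p)) i
    ((hG.pp_pp t₁ π r₁ h₁ t p r h i (by omega)).of_iso ((E.T i).mapIso ((pp p).mapIso e₂)))
    ((hG t p r h (i + 1) (by omega)).of_iso ((E.T (i + 1)).mapIso ((pp p).mapIso e₁)))

/-- **Injectivity** for integral surjective base change, in the first possibly non-zero degree. -/
theorem mono_unit_map (q : ℕ) : ∀ {S X : Scheme.{u}} (f : X ⟶ S)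
    (E : DeltaFunctor (EtCoh.Ab X) AddCommGrpCat.{u + 1}) (_ : (E.T 0).PreservesMonomorphisms)
    (G : EtCoh.Ab X) (_ : Van f E G q) {T₁ Y₁ : Scheme.{u}} (t₁ : T₁ ⟶ S) [IsIntegralHom t₁]
    [Surjective t₁] (π : Y₁ ⟶ X) (r₁ : Y₁ ⟶ T₁), IsPullback π r₁ f t₁ →
    Mono ((E.T q).map ((pullPushAdj π).unit.app G)) := by
  induction q with
  | zero =>
    intro S X f E hE G hG T₁ Y₁ t₁ _ _ π r₁ h₁
    have : Surjective π := MorphismProperty.of_isPullback h₁.flip inferInstance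
    have := Groth.Agent.Sga4h.H929.NExact.mono_unit π G
    infer_instance
  | succ q ih =>
    intro S X f E hE G hG T₁ Y₁ t₁ _ _ π r₁ h₁
    have : IsIntegralHom π := MorphismProperty.of_isPullback h₁.flip inferInstance
    have : Surjective π := MorphismProperty.of_isPullback h₁.flip inferInstance
    have hS := Groth.Agent.Sga4h.H929.NExact.shortExact π G
    have hQ : Van f E _ q := hG.cok t₁ π r₁ h₁ hS (Iso.refl _) (Iso.refl _)
    have hz := isZero₃_of_mono E (have := pp_pfc π; hS.map_of_exact (pp π)) q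
      (hG.pp_pp t₁ π r₁ h₁ t₁ π r₁ h₁ q (by omega)) (by
        have h5 : (pull π).map ((pullPushAdj π).unit.app G) ≫
            (pullPushAdj π).counit.app ((pull π).obj G) = 𝟙 _ :=
          (pullPushAdj π).left_triangle_components G
        have h6 : (pp π).map ((pullPushAdj π).unit.app G) ≫
            (push π).map ((pullPushAdj π).counit.app ((pull π).obj G)) = 𝟙 _ := by
          change (push π).map ((pull π).map ((pullPushAdj π).unit.app G)) ≫ _ = _
          rw [← Functor.map_comp, h5, CategoryTheory.Functor.map_id]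
          rfl
        have : IsSplitMono ((pp π).map ((pullPushAdj π).unit.app G)) := IsSplitMono.mk' ⟨_, h6⟩
        change Mono ((E.T (q + 1)).map ((pp π).map ((pullPushAdj π).unit.app G)))
        infer_instance)
    have hm := ih f E hE _ hQ t₁ π r₁ h₁
    exact mono_succ E hS q (IsZero.of_mono ((E.T q).map ((pullPushAdj π).unit.app _)) hz)

end K252.IntInj
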