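import Groth.Agent.SGA4h.K252.IntRel
import Groth.Agent.SGA4h.K252.HpTools
import Groth.Agent.S0427

/-!
# Restriction to the closed fibre over integral algebras of a strictly local ring

`R` a local ring, `f : P ⟶ Spec R` qcqs, `F` an abelian étale sheaf on `P`.
* `CF r M`: for `r : Y ⟶ Spec R`, the restriction `H^q(Y, M) → H^q(Y_s, M)` to the closed fibre is bijective for all `q`;
* `cf_of_sepClosed`: if `CF` holds for `P ×_R C` for `C` the integral closure of `R` in any separably closed field,
  then it holds for `P ×_R T` for all integral `T ⟶ Spec R`;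
* `cf_of_point`: `CF` over an integral domain `C` integral over a henselian `R`, from the restriction to the fibre at the
  closed point of `Spec C`.
-/

set_option autoImplicit false
universe u
open CategoryTheory CategoryTheory.Limits AlgebraicGeometry Opposite IsLocalRing

noncomputable section

namespace K252.IntMain

open EtCoh K252.HpTools K252.IntRel K252.IntVan K252.IntInj Groth.Agent.Etcore.HpullCalc
open scoped Groth.Agent.Sga4B.EtAbInst Groth.Agent.Etcore.EtInst

section CF

variable {R : Type u} [CommRing R] [IsLocalRing R]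

variable (R) in
/-- The closed point. -/
abbrev kp : Spec (CommRingCat.of (ResidueField R)) ⟶ Spec (CommRingCat.of R) :=
  Spec.map (CommRingCat.ofHom (residue R))

instance : IsClosedImmersion (kp R) := IsClosedImmersion.spec_of_surjective _ residue_surjective

/-- Restriction to the closed fibre is bijective in all degrees. -/
def CF {Y : Scheme.{u}} (r : Y ⟶ Spec (CommRingCat.of R)) (M : EtCoh.Ab Y) : Prop :=
  ∀ ⦃W : Scheme.{u}⦄ (i : W ⟶ Y) (c : W ⟶ Spec (CommRingCat.of (ResidueField R))),
    IsPullback i c r (kp R) → ∀ q, Bij i M q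

theorem CF.of_one {Y : Scheme.{u}} {r : Y ⟶ Spec (CommRingCat.of R)} {M : EtCoh.Ab Y}
    {W : Scheme.{u}} {i : W ⟶ Y} {c : W ⟶ Spec (CommRingCat.of (ResidueField R))}
    (h : IsPullback i c r (kp R)) (hb : ∀ q, Bij i M q) : CF r M := by
  intro W' i' c' h' q
  have e : i' = (h'.isoIsPullback _ _ h).hom ≫ i := by simp
  rw [bij_congr e, bij_comp_iff _ _ _ _ (hb q)]
  exact bij_of_isIso _ _ _

theorem CF.congr_sheaf {Y : Scheme.{u}} {r : Y ⟶ Spec (CommRingCat.of R)} {M M' : EtCoh.Ab Y}
    (e : M ≅ M') (h : CF r M) : CF r M' := fun _ i c hi q => (h i c hi q).congr_sheaf e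

theorem CF.of_iso {Y Y' : Scheme.{u}} {r : Y ⟶ Spec (CommRingCat.of R)} {M : EtCoh.Ab Y} (a : Y' ⟶ Y)
    [IsIso a] (h : CF r M) : CF (a ≫ r) ((pull a).obj M) := by
  have h1 := IsPullback.of_hasPullback r (kp R)
  have h2 : IsPullback (pullback.fst r (kp R) ≫ inv a) (pullback.snd r (kp R)) (a ≫ r) (kp R) := by
    refine h1.of_iso (Iso.refl _) (asIso a).symm (Iso.refl _) (Iso.refl _) (by simp) (by simp)
      (by simp) (by simp)
  refine CF.of_one h2 fun q => ?_
  have h3 := h _ _ h1 q
  rw [← bij_comp_iff (pullback.fst r (kp R) ≫ inv a) a M q (bij_of_isIso a M q)]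
  rw [bij_congr (show (pullback.fst r (kp R) ≫ inv a) ≫ a = pullback.fst r (kp R) by simp)]
  exact h3

end CF

section main

variable {R : Type u} [CommRing R] [IsLocalRing R] {P : Scheme.{u}} (f : P ⟶ Spec (CommRingCat.of R))

/-- Vanishing of relative cohomology and restriction to the closed fibre. -/
theorem rel_iff {Y T : Scheme.{u}} (t : T ⟶ Spec (CommRingCat.of R)) [IsIntegralHom t] (p : Y ⟶ P)
    (r : Y ⟶ T) (h : IsPullback p r f t) (N : EtCoh.Ab Y) :
    (∀ q, IsZero (((rel (pullback.fst f (kp R))).T q).obj ((push p).obj N))) ↔ CF (r ≫ t) N := by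
  have hp : IsIntegralHom p := MorphismProperty.of_isPullback h.flip inferInstance
  have h1 := IsPullback.of_hasPullback p (pullback.fst f (kp R))
  have h2 : IsPullback (pullback.fst p (pullback.fst f (kp R)))
      (pullback.snd p (pullback.fst f (kp R)) ≫ pullback.snd f (kp R)) (r ≫ t) (kp R) := by
    rw [← h.w]
    exact (h1.flip.paste_horiz (IsPullback.of_hasPullback f (kp R)).flip).flip
  rw [isZero_rel_iff]
  constructor
  · intro h3
    exact CF.of_one h2 fun q => (bijective_hp_push_iff h1 N q).1 (h3 q)
  · intro h3 q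
    exact (bijective_hp_push_iff h1 N q).2 (h3 _ _ h2 q)

/-- **Restriction to the closed fibre over integral algebras.** -/
theorem cf_of_sepClosed [QuasiCompact f] [QuasiSeparated f] (F : EtCoh.Ab P)
    (hΩ : ∀ (Ω : Type u) [Field Ω] [IsSepClosed Ω] [Algebra R Ω] {Y : Scheme.{u}}
      (p : Y ⟶ P) (r : Y ⟶ Spec (CommRingCat.of (integralClosure R Ω))), IsPullback p r f (nm R Ω) →
      CF (r ≫ nm R Ω) ((pull p).obj F))
    {T Y : Scheme.{u}} (t : T ⟶ Spec (CommRingCat.of R)) [IsIntegralHom t] (p : Y ⟶ P)
    (r : Y ⟶ T) (h : IsPullback p r f t) : CF (r ≫ t) ((pull p).obj F) := by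
  have i1 : CompactSpace P := QuasiCompact.compactSpace_of_compactSpace f
  have i2 : QuasiSeparatedSpace P := quasiSeparatedSpace_of_quasiSeparated f
  rw [← rel_iff f t p r h]
  intro q
  refine van_of_sepClosed f (good_rel (pullback.fst f (kp R))) F ?_ (q + 1) t p r h q (Nat.lt_succ_self q)
  intro Ω _ _ _ Y p r h q
  have hint : IsIntegralHom (nm R Ω) :=
    (IsIntegralHom.SpecMap_iff (φ := CommRingCat.ofHom (algebraMap R (integralClosure R Ω)))).2
      (algebraMap_isIntegral_iff.2 inferInstance)
  exact (rel_iff f (nm R Ω) p r h _).2 (hΩ Ω p r h) q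

end main

section point

variable {R C : Type u} [CommRing R] [IsLocalRing R] [CommRing C] [IsLocalRing C] (α : R →+* C)
  (hα : α.IsIntegral)

include hα in
theorem comap_closedPoint_of_isIntegral : PrimeSpectrum.comap α (closedPoint C) = closedPoint R := by
  let _ : Algebra R C := α.toAlgebra
  have : Algebra.IsIntegral R C := algebraMap_isIntegral_iff.1 hα
  have h1 : ((maximalIdeal C).comap (algebraMap R C)).IsMaximal :=
    Ideal.isMaximal_comap_of_isIntegral_of_isMaximal (maximalIdeal C)
  exact PrimeSpectrum.ext (IsLocalRing.eq_maximalIdeal h1)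

include hα in
theorem eq_closedPoint_of_isIntegral (s : PrimeSpectrum C) (h : PrimeSpectrum.comap α s = closedPoint R) :
    s = closedPoint C := by
  let _ : Algebra R C := α.toAlgebra
  have : Algebra.IsIntegral R C := algebraMap_isIntegral_iff.1 hα
  have h1 : s.asIdeal.IsMaximal := by
    have h2 : (s.asIdeal.comap (algebraMap R C)).IsMaximal := by
      have h3 : s.asIdeal.comap (algebraMap R C) = maximalIdeal R := congrArg PrimeSpectrum.asIdeal h
      rw [h3]
      infer_instance
    exact Ideal.isMaximal_of_isIntegral_of_isMaximal_comap s.asIdeal h2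
  exact PrimeSpectrum.ext (IsLocalRing.eq_maximalIdeal h1)

theorem range_kp : Set.range (kp R) = {(closedPoint R : ↥(Spec (CommRingCat.of R)))} := by
  ext y
  constructor
  · rintro ⟨z, rfl⟩
    exact PrimeSpectrum.comap_residue R z
  · rintro rfl
    exact ⟨closedPoint (ResidueField R), PrimeSpectrum.comap_residue R _⟩

include hα in
/-- For `R → C` local and integral, and a closed point `j : Spec K ⟶ Spec C`: the closed fibre over `R` and the fibre over
`j` have the same cohomology. -/
theorem cf_iff_of_local {K : Type u} [Field K] (j : Spec (CommRingCat.of K) ⟶ Spec (CommRingCat.of C))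
    [hj : IsClosedImmersion j] {Y : Scheme.{u}} (r : Y ⟶ Spec (CommRingCat.of C)) (M : EtCoh.Ab Y) :
    CF (r ≫ Spec.map (CommRingCat.ofHom α)) M ↔ ∀ q, Bij (pullback.fst r j) M q := by
  let t : Spec (CommRingCat.of C) ⟶ Spec (CommRingCat.of R) := Spec.map (CommRingCat.ofHom α)
  have hjp : j (closedPoint K) = closedPoint C := by
    have h1 : (closedPoint C : ↥(Spec (CommRingCat.of C))) ∈ Set.range j :=
      (IsLocalRing.specializes_closedPoint (R := C) (j (closedPoint K))).mem_closed
        j.isClosedEmbedding.isClosed_range ⟨_, rfl⟩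
    obtain ⟨y, hy⟩ := h1
    rw [← hy]
    exact congrArg j (Subsingleton.elim (α := PrimeSpectrum K) _ _)
  let A := pullback.fst t (kp R)
  have hA : ∀ y, A y = closedPoint C := by
    intro y
    have h1 : Set.range A = t ⁻¹' Set.range (kp R) := Scheme.Pullback.range_fst _ _
    have h2 : A y ∈ Set.range A := ⟨_, rfl⟩
    rw [h1, range_kp] at h2
    exact eq_closedPoint_of_isIntegral α hα _ h2
  let φ : R →+* K := (Spec.preimage (j ≫ t)).hom
  have hφ : Spec.map (CommRingCat.ofHom φ) = j ≫ t := Spec.map_preimage _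
  have hφl : IsLocalHom φ := by
    rw [isLocalHom_iff_comap_closedPoint]
    have h1 : (Spec.map (CommRingCat.ofHom φ)) (closedPoint K) = closedPoint R := by
      rw [hφ]
      exact (Scheme.Hom.comp_apply j t _).trans ((congrArg t hjp).trans (comap_closedPoint_of_isIntegral α hα))
    exact h1
  have hfac : j ≫ t = Spec.map (CommRingCat.ofHom (ResidueField.lift φ)) ≫ kp R := by
    rw [← hφ, ← Spec.map_comp, ← CommRingCat.ofHom_comp, ResidueField.lift_comp_residue]
  let k := pullback.lift j (Spec.map (CommRingCat.ofHom (ResidueField.lift φ))) hfac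
  have hk : k ≫ A = j := pullback.lift_fst _ _ _
  have hki : IsClosedImmersion k := by
    have h1 : IsClosedImmersion (k ≫ A) := by rw [hk]; exact hj
    exact IsClosedImmersion.of_comp k A
  have hks : Surjective k := by
    refine ⟨fun y => ⟨closedPoint K, ?_⟩⟩
    apply A.isClosedEmbedding.injective
    rw [hA y, hA]
  -- base change
  have H1 := IsPullback.of_hasPullback r j
  have H2 := IsPullback.of_hasPullback r A
  have w : pullback.fst r j ≫ r = (pullback.snd r j ≫ k) ≫ A := by rw [Category.assoc, hk]; exact H1.w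
  have H3 : IsPullback (H2.lift (pullback.fst r j) (pullback.snd r j ≫ k) w) (pullback.snd r j)
      (pullback.snd r A) k := by
    refine IsPullback.of_right ?_ (H2.lift_snd _ _ _) H2
    rw [H2.lift_fst, hk]
    exact H1
  have H4 : IsPullback (pullback.fst r A) (pullback.snd r A ≫ pullback.snd t (kp R)) (r ≫ t) (kp R) :=
    (H2.flip.paste_horiz (IsPullback.of_hasPullback t (kp R)).flip).flip
  have i1 : IsClosedImmersion (H2.lift (pullback.fst r j) (pullback.snd r j ≫ k) w) :=
    MorphismProperty.of_isPullback H3.flip hki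
  have i2 : Surjective (H2.lift (pullback.fst r j) (pullback.snd r j ≫ k) w) :=
    MorphismProperty.of_isPullback H3.flip hks
  have key : ∀ q, Bij (pullback.fst r j) M q ↔ Bij (pullback.fst r A) M q := fun q => by
    rw [← bij_comp_iff' _ _ M q (bij_of_univHomeo (H2.lift (pullback.fst r j) (pullback.snd r j ≫ k) w) _ q),
      bij_congr (H2.lift_fst _ _ _)]
  constructor
  · intro h q
    exact (key q).2 (h _ _ H4 q)
  · intro h
    exact CF.of_one H4 fun q => (key q).1 (h q)

end point

end K252.IntMain
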