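import Groth.Agent.SGA4h.K252.IntVan
import Groth.Agent.SGA4h.K557.HpBc
import Groth.Agent.Sga7.H748.GalPush
import Groth.Agent.Etbase.EtColimBig
import Groth.Agent.S0654
import Groth.Agent.S0648
import Groth.Agent.S14389

/-!
# Relative cohomology with respect to a closed subscheme

`i : Z ⟶ X` a closed immersion; `rel i` is the delta functor `F ↦ H^q(X, j_! j⁻¹ F)`, `j` the complement.

* `good_rel`: for `X` qcqs, it commutes with filtered colimits;
* `isZero_rel_iff`: `rel i` vanishes on `M` iff `H^q(X, M) → H^q(Z, i⁻¹ M)` is bijective for all `q`;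
* `bijective_hp_push_iff`: for `p : Y ⟶ X` integral and `Z_Y = Z ×_X Y`, this holds for `M = p_* N` iff
  `H^q(Y, N) → H^q(Z_Y, N)` is bijective for all `q`.
-/

set_option autoImplicit false
universe u
open CategoryTheory CategoryTheory.Limits AlgebraicGeometry Opposite

noncomputable section

namespace K252.IntRel

open K252.IntInj K252.IntColim K252.IntVan EtCoh Groth.Agent.Localalg.DeltaFun K557.HpBc
  Groth.Agent.Etcore.HpullCalc Groth.Agent.Etcore.EtInst
open scoped Groth.Agent.Sga4B.EtAbInst Groth.Agent.Etcore.EtInst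

section Rel

variable {X Z : Scheme.{u}} (i : Z ⟶ X) [IsClosedImmersion i]

/-- The complement. -/
def U : X.Opens := ⟨(Set.range i)ᶜ, i.isClosedEmbedding.isClosed_range.isOpen_compl⟩

/-- `j_! j⁻¹`. -/
def KF : EtCoh.Ab X ⥤ EtCoh.Ab X := EtShriek.restrAlong (U i).ι ⋙ EtShriek.extZero (U i).ι

instance : PreservesColimitsOfSize.{u + 1, u + 1} (EtShriek.extZero (U i).ι) :=
  (EtShriek.extZeroAdj (U i).ι).leftAdjoint_preservesColimits

instance : PreservesColimitsOfSize.{u + 1, u + 1} (EtShriek.restrAlong (U i).ι) := by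
  have h1 : PreservesColimitsOfSize.{u + 1, u + 1} (EtCoh.pull (U i).ι) :=
    (pullPushAdj (U i).ι).leftAdjoint_preservesColimits
  exact preservesColimits_of_natIso (Groth.Agent.Etcore.ShriekBasic.pullIsoRestr (U i).ι)

theorem KF_colim (J : Type (u + 1)) [SmallCategory J] : PreservesColimitsOfShape J (KF i) :=
  comp_preservesColimitsOfShape _ _

theorem KF_pfc : PreservesFiniteColimits (KF i) := by
  have h1 : PreservesFiniteColimits (EtShriek.extZero (U i).ι) :=
    PreservesColimitsOfSize.preservesFiniteColimits _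
  have h2 : PreservesFiniteColimits (EtShriek.restrAlong (U i).ι) :=
    PreservesColimitsOfSize.preservesFiniteColimits _
  exact comp_preservesFiniteColimits _ _

theorem KF_pfl : PreservesFiniteLimits (KF i) := by
  have h1 : PreservesFiniteLimits (EtShriek.extZero (U i).ι) := Groth.Agent.S0648.result (U i).ι
  have h3 : PreservesLimitsOfSize.{0, 0} (EtShriek.restrAlong (U i).ι) :=
    (EtShriek.extZeroAdj (U i).ι).rightAdjoint_preservesLimits
  have h2 : PreservesFiniteLimits (EtShriek.restrAlong (U i).ι) :=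
    PreservesLimitsOfSize.preservesFiniteLimits _
  exact comp_preservesFiniteLimits _ _

theorem KF_additive : (KF i).Additive :=
  have := KF_pfl i
  Groth.Agent.Sga4B.EtAbInst.additive_pfl (KF i)

/-- `j_! j⁻¹ F ⟶ F ⟶ i_* i⁻¹ F`. -/
theorem exists_ses (F : EtCoh.Ab X) : ∃ (a : (KF i).obj F ⟶ F) (w : a ≫ (pullPushAdj i).unit.app F = 0),
    (ShortComplex.mk a ((pullPushAdj i).unit.app F) w).ShortExact := by
  obtain ⟨w, h⟩ := Groth.Agent.S0654.result i (U i) rfl F
  exact ⟨_, w, h⟩

/-- Relative cohomology. -/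
def rel : DeltaFunctor (EtCoh.Ab X) AddCommGrpCat.{u + 1} :=
  have := KF_additive i
  have := KF_pfl i
  have := KF_pfc i
  (hD X).precomp (KF i)

theorem hD_mono (X : Scheme.{u}) : ((hD X).T 0).PreservesMonomorphisms := by
  have h1 : PreservesLimitsOfSize.{0, 0} (EtCore.gsec X) :=
    (EtCore.constAdj X).rightAdjoint_preservesLimits
  have h2 : PreservesFiniteLimits (EtCore.gsec X) := PreservesLimitsOfSize.preservesFiniteLimits _
  have h3 : (EtCore.gsec X).PreservesMonomorphisms := inferInstance
  exact Functor.PreservesMonomorphisms.of_iso (zeroH X).symm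

theorem good_rel [CompactSpace X] [QuasiSeparatedSpace X] : Good (rel i) where
  mono := by
    have := KF_pfl i
    have := hD_mono X
    exact ⟨fun a _ => inferInstanceAs (Mono (((hD X).T 0).map ((KF i).map a)))⟩
  colim q J _ _ := by
    have h1 := KF_colim i J
    have h2 : PreservesColimitsOfShape J ((hD X).T q) :=
      Groth.Agent.Etbase.EtColimBig.preservesColimits_HF_big X J q
    exact comp_preservesColimitsOfShape (KF i) ((hD X).T q)

end Rel

section Iff

variable {C : Type*} [Category* C] [Abelian C] {D : Type*} [Category* D] [Abelian D]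
  (E : DeltaFunctor C D) (hE : (E.T 0).PreservesMonomorphisms) {S : ShortComplex C} (hS : S.ShortExact)

include hS hE in
theorem isZero_iff_isIso : (∀ q, IsZero ((E.T q).obj S.X₁)) ↔ ∀ q, IsIso ((E.T q).map S.g) := by
  constructor
  · intro h q
    have h1 : Mono ((E.T q).map S.g) := (E.exact₂ hS q).mono_g ((h q).eq_of_src _ _)
    have h2 : Epi ((E.T q).map S.g) := (E.exact₃ hS q).epi_f ((h (q + 1)).eq_of_tgt _ _)
    exact isIso_of_mono_of_epi _
  · intro h q
    have h1 : ∀ q, (E.T q).map S.f = 0 := fun q => by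
      have := h q
      rw [← cancel_mono ((E.T q).map S.g), ← Functor.map_comp, S.zero, Functor.map_zero, zero_comp]
    rcases q with _ | q
    · have := hS.mono_f
      have h2 : Mono ((E.T 0).map S.f) := inferInstance
      exact IsZero.of_mono_eq_zero ((E.T 0).map S.f) (h1 0)
    · have h3 : E.δ hS q = 0 := by
        have := h q
        rw [← cancel_epi ((E.T q).map S.g), E.zero₃, comp_zero]
      exact (E.exact₁ hS q).isZero_of_both_zeros h3 (h1 (q + 1))

end Iff

section Hp

variable {X Z : Scheme.{u}} (i : Z ⟶ X)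

theorem hp_eq_edge (M : EtCoh.Ab X) (q : ℕ) (x : HH X M q) :
    hp i M q x = Groth.Agent.Sga7.H748.GalPush.edge i ((pull i).obj M) q
      (HHmap ((pullPushAdj i).unit.app M) q x) := by
  rw [Groth.Agent.Sga7.H748.GalPush.edge_apply, hp_map, ← HHmap_comp]
  have h1 : (pull i).map ((pullPushAdj i).unit.app M) ≫
    (pullPushAdj i).counit.app ((pull i).obj M) = 𝟙 _ := (pullPushAdj i).left_triangle_components M
  exact (HHmap_id _ _ _).symm.trans (congrArg (fun φ => HHmap φ q (hp i M q x)) h1.symm)

theorem bijective_hp_iff_unit [PreservesFiniteColimits (push i)] (M : EtCoh.Ab X) (q : ℕ) :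
    Function.Bijective (hp i M q) ↔ Function.Bijective (HHmap ((pullPushAdj i).unit.app M) q) := by
  have h1 : ⇑(hp i M q) = ⇑(Groth.Agent.Sga7.H748.GalPush.edge i ((pull i).obj M) q) ∘
      ⇑(HHmap ((pullPushAdj i).unit.app M) q) := funext (hp_eq_edge i M q)
  rw [h1]
  exact Function.Bijective.of_comp_iff' (Groth.Agent.Sga7.H748.GalPush.edge_bijective i _ q) _

/-- **Relative cohomology vanishes iff the restriction is bijective.** -/
theorem isZero_rel_iff [IsClosedImmersion i] (M : EtCoh.Ab X) :
    (∀ q, IsZero (((rel i).T q).obj M)) ↔ ∀ q, Function.Bijective (hp i M q) := by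
  obtain ⟨a, w, hS⟩ := exists_ses i M
  have h1 := isZero_iff_isIso (hD X) (hD_mono X) hS
  have h2 : (∀ q, IsZero (((rel i).T q).obj M)) ↔ ∀ q, IsZero (((hD X).T q).obj ((KF i).obj M)) := Iff.rfl
  rw [h2]
  refine h1.trans (forall_congr' fun q => ?_)
  have := pfc_push i
  rw [bijective_hp_iff_unit i M q, ConcreteCategory.isIso_iff_bijective]
  rfl

end Hp

section Push

variable {X Z Y W : Scheme.{u}} {i : Z ⟶ X} {p : Y ⟶ X} [IsIntegralHom p] {i' : W ⟶ Y} {p' : W ⟶ Z}

/-- For `p` integral, restriction for `p_* N` is restriction for `N`. -/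
theorem bijective_hp_push_iff (h : IsPullback i' p' p i) (N : EtCoh.Ab Y) (q : ℕ) :
    Function.Bijective (hp i ((push p).obj N) q) ↔ Function.Bijective (hp i' N q) := by
  have hp' : IsIntegralHom p' := MorphismProperty.of_isPullback h inferInstance
  have i1 := pfc_push p
  have i2 := pfc_push p'
  have i3 : IsIso (baseChange0 p i p' i' h.w N) :=
    Groth.Agent.EtpbcB.IntegralBC.isIso_baseChange0 p h N
  have h1 := Groth.Agent.Sga7.H748.GalPush.edgeQ_bijective p i p' i' h.w N q
  have h2 := Groth.Agent.Sga7.H748.GalPush.edge_bijective p N q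
  have key : ∀ x, hp i' N q (Groth.Agent.Sga7.H748.GalPush.edge p N q x) =
      Groth.Agent.Sga7.H748.GalPush.edgeQ p i p' i' h.w N q (hp i ((push p).obj N) q x) := by
    intro x
    exact Groth.Agent.S14389.result p i p' i' h.w N q x
  have h3 : ⇑(hp i' N q) ∘ ⇑(Groth.Agent.Sga7.H748.GalPush.edge p N q) =
      ⇑(Groth.Agent.Sga7.H748.GalPush.edgeQ p i p' i' h.w N q) ∘ ⇑(hp i ((push p).obj N) q) := funext key
  rw [← Function.Bijective.of_comp_iff _ h2, h3, Function.Bijective.of_comp_iff' h1]

end Push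

end K252.IntRel
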