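import Groth.Agent.SGA4h.K252.IntColim
import Groth.Agent.Etrest.RpushSum
import Mathlib.FieldTheory.IsAlgClosed.AlgebraicClosure
import Mathlib.FieldTheory.IsSepClosed

/-!
# Vanishing over all integral schemes from vanishing over normalizations in separably closed fields

`f : X ⟶ Spec R`, `E` a delta functor on abelian étale sheaves on `X`, commuting with filtered colimits, with `E^0`
preserving monomorphisms, `F` a sheaf on `X`.  If `E^q(p_* p⁻¹ F) = 0` for all `q` and all base changes `p` of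
`Spec (integral closure of R in Ω) ⟶ Spec R`, `Ω` separably closed, then the same holds for all integral morphisms
`T ⟶ Spec R` (`van_of_sepClosed`).
-/

set_option autoImplicit false
universe u
open CategoryTheory CategoryTheory.Limits AlgebraicGeometry Opposite

noncomputable section

namespace K252.IntVan

open K252.IntInj K252.IntColim EtCoh Groth.Agent.Localalg.DeltaFun
open scoped Groth.Agent.Sga4B.EtAbInst

/-- `E^0` preserves monomorphisms, `E^q` commutes with filtered colimits. -/
structure Good {X : Scheme.{u}} (E : DeltaFunctor (EtCoh.Ab X) AddCommGrpCat.{u + 1}) : Prop where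
  mono : (E.T 0).PreservesMonomorphisms
  colim : ∀ (q : ℕ) (J : Type (u + 1)) [SmallCategory J] [IsFiltered J], PreservesColimitsOfShape J (E.T q)

section bc

variable {X Y : Scheme.{u}} (p : Y ⟶ X) [IsIntegralHom p]

theorem pfc_push : PreservesFiniteColimits (push p) :=
  Groth.Agent.Sga4A.EtSplit.preservesFiniteColimits_push p

theorem colim_push (J : Type (u + 1)) [SmallCategory J] : PreservesColimitsOfShape J (push p) := by
  have h1 := pfc_push p
  have h2 : ∀ ι : Type (u + 1), PreservesColimitsOfShape (Discrete ι) (push p) := fun ι =>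
    Groth.Agent.Etrest.RpushSum.preservesColimitsOfShape_push ι p
  have h3 := h2 J
  have h4 := h2 (Σ p : J × J, p.1 ⟶ p.2)
  exact preservesColimit_of_preservesCoequalizers_and_coproduct (push p)

variable (E : DeltaFunctor (EtCoh.Ab X) AddCommGrpCat.{u + 1})

/-- `E` on sheaves on `Y`, via `p_*`. -/
def res : DeltaFunctor (EtCoh.Ab Y) AddCommGrpCat.{u + 1} :=
  have := pfc_push p
  E.precomp (push p)

variable {E}

theorem Good.res (hE : Good E) : Good (res p E) where
  mono := by
    have := hE.mono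
    exact ⟨fun a _ => inferInstanceAs (Mono ((E.T 0).map ((push p).map a)))⟩
  colim q J _ _ := by
    have := hE.colim q J
    have := colim_push p J
    exact comp_preservesColimitsOfShape (push p) (E.T q)

theorem Van.res {S T : Scheme.{u}} {f : X ⟶ S} {G : EtCoh.Ab X} {q : ℕ} (hG : Van f E G q) (t : T ⟶ S)
    [IsIntegralHom t] (r : Y ⟶ T) (h : IsPullback p r f t) : Van r (res p E) ((pull p).obj G) q := by
  intro T' Y' t' _ p' r' h' i hi
  obtain ⟨e⟩ := nonempty_pp_comp p' p G
  have h2 := (h'.flip.paste_vert h.flip).flip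
  exact (hG (t' ≫ t) (p' ≫ p) r' h2 i hi).of_iso ((E.T i).mapIso e)

end bc

theorem Van.pp {S X T₁ Y₁ : Scheme.{u}} {f : X ⟶ S} {E : DeltaFunctor (EtCoh.Ab X) AddCommGrpCat.{u + 1}}
    {G : EtCoh.Ab X} {q : ℕ} (hG : Van f E G q) (t₁ : T₁ ⟶ S)
    [IsIntegralHom t₁] (π : Y₁ ⟶ X) (r₁ : Y₁ ⟶ T₁) (h₁ : IsPullback π r₁ f t₁) :
    Van f E ((pp π).obj G) q := fun _ _ t _ p r h i hi => hG.pp_pp t₁ π r₁ h₁ t p r h i hi

section Affine

variable {B : Type u} [CommRing B] {X : Scheme.{u}} (f : X ⟶ Spec (CommRingCat.of B))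

/-- The closed immersion `Spec (B / I) ⟶ Spec B`. -/
abbrev cl (I : Ideal B) : Spec (CommRingCat.of (B ⧸ I)) ⟶ Spec (CommRingCat.of B) :=
  Spec.map (CommRingCat.ofHom (Ideal.Quotient.mk I))

instance (I : Ideal B) : IsClosedImmersion (cl I) :=
  IsClosedImmersion.spec_of_surjective _ Ideal.Quotient.mk_surjective

/-- The restriction of `X` to `V(I)`. -/
abbrev zI (I : Ideal B) : pullback f (cl I) ⟶ X := pullback.fst f (cl I)

theorem isPullback_zI (I : Ideal B) : IsPullback (zI f I) (pullback.snd f (cl I)) f (cl I) :=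
  IsPullback.of_hasPullback _ _

theorem mem_range_zI (I : Ideal B) (x : X) :
    x ∈ Set.range (zI f I) ↔ I ≤ (f x : PrimeSpectrum B).asIdeal := by
  have h1 : Set.range (zI f I) = f ⁻¹' Set.range (cl I) := Scheme.Pullback.range_fst _ _
  have h2 : Set.range (cl I) = PrimeSpectrum.zeroLocus (I : Set B) := by
    refine (range_comap_of_surjective _ (Ideal.Quotient.mk I)
      Ideal.Quotient.mk_surjective).trans ?_
    rw [Ideal.mk_ker]
  rw [h1, h2]
  rfl

variable {E : DeltaFunctor (EtCoh.Ab X) AddCommGrpCat.{u + 1}} (hE : Good E) (G : EtCoh.Ab X) (q : ℕ)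
  (ξ : (E.T q).obj G)

/-- `ξ` restricted to `V(I)`. -/
def rs (I : Ideal B) : (E.T q).obj ((pp (zI f I)).obj G) := (E.T q).map (un (zI f I) G) ξ

include hE in
theorem exists_maximal (hξ : ξ ≠ 0) : ∃ I : Ideal B, rs f G q ξ I ≠ 0 ∧ ∀ J, I < J → rs f G q ξ J = 0 := by
  let s : Set (Ideal B) := {I | rs f G q ξ I ≠ 0}
  have h0 : (⊥ : Ideal B) ∈ s := by
    intro h
    have h1 : IsIso (un (zI f ⊥) G) := by
      refine Groth.Agent.Etcore.IntUnivInj.isIso_unit_of_supp (zI f ⊥) G (fun x _ => ?_)
      rw [mem_range_zI]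
      exact bot_le
    have h2 : Function.Injective ((E.T q).map (un (zI f ⊥) G)) :=
      (ConcreteCategory.bijective_of_isIso ((E.T q).map (un (zI f ⊥) G))).1
    exact hξ (h2 (h.trans (map_zero _).symm))
  obtain ⟨I, -, hI⟩ := zorn_le_nonempty₀ s (fun c hcs hc y hy => by
    refine ⟨sSup c, ?_, fun z hz => le_sSup hz⟩
    intro hcontra
    let J := ULift.{u + 1} c
    have hdir : IsDirectedOrder J := ⟨fun a b => by
      rcases hc.total a.down.2 b.down.2 with h | h
      · exact ⟨b, h, le_refl _⟩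
      · exact ⟨a, le_refl _, h⟩⟩
    have : Nonempty J := ⟨⟨⟨y, hy⟩⟩⟩
    have := hE.colim q J
    obtain ⟨j, hj⟩ := exists_map_unit_eq_zero (J := J) (fun j => zI f j.down.1)
      (fun j k hjk x hx => by
        rw [mem_range_zI] at hx ⊢
        exact le_trans hjk hx) G (zI f (sSup c)) (fun x hx => by
        rw [mem_range_zI]
        refine sSup_le fun I hI => ?_
        rw [← mem_range_zI f I]
        exact hx ⟨⟨I, hI⟩⟩) (E.T q) ξ hcontra
    exact hcs j.down.2 hj) ⊥ h0
  refine ⟨I, hI.prop, fun J hJ => ?_⟩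
  by_contra hne
  exact absurd (hI.le_of_ge hne hJ.le) (not_le_of_gt hJ)

theorem isZero_pp_of_isEmpty {Z : Scheme.{u}} (z : Z ⟶ X) [IsEmpty Z] (G : EtCoh.Ab X) :
    IsZero ((pp z).obj G) :=
  (push z).map_isZero (Groth.Agent.EtpbcA.Artin.isZero_of_forall _ (fun x => (IsEmpty.false x).elim))

theorem supp_subset_of_mono {K M : EtCoh.Ab X} (ι : K ⟶ M) [Mono ι] : EtPBC.supp K ⊆ EtPBC.supp M := by
  intro x hx
  by_contra h
  obtain ⟨Ω, _, _, ξ, hξ⟩ := Groth.Agent.EtpbcA.Artin.exists_point x
  rw [Groth.Agent.EtpbcA.Artin.mem_supp_iff _ x ξ hξ] at hx h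
  rw [not_not] at h
  have h1 := (Groth.Agent.Etcore.Stalks.mono_iff_stalks ι).1 inferInstance Ω ξ
  have h2 := AddCommGrpCat.subsingleton_of_isZero h
  have h3 : Subsingleton ((EtCoh.stalk ξ).obj K) := h1.subsingleton
  exact hx (AddCommGrpCat.isZero_of_subsingleton _)

/-- A section dying on `V(J)` comes from the kernel of the restriction. -/
theorem exists_kernel_lift {Z : Scheme.{u}} (z : Z ⟶ X) [IsClosedImmersion z] (M : EtCoh.Ab X)
    (x : (E.T q).obj M) (hx : (E.T q).map (un z M) x = 0) :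
    ∃ y : (E.T q).obj (kernel (un z M)), (E.T q).map (kernel.ι (un z M)) y = x := by
  have := epi_un z M
  have hS : (ShortComplex.mk (kernel.ι (un z M)) (un z M) (kernel.condition _)).ShortExact :=
    { exact := ShortComplex.exact_of_f_is_kernel _ (kernelIsKernel _) }
  have h1 := (ShortComplex.ab_exact_iff _).1 (E.exact₂ hS q) x hx
  exact h1

include hE in
/-- If `M` is supported in `Z_a ∪ Z_b`, and `x` dies on `Z_a` and on `Z_b`, then `x = 0`, provided that
`E^{q-1}(M|_{Z_a ∩ Z_b}) = 0`. -/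
theorem eq_zero_of_union {Za Zb : Scheme.{u}} (a : Za ⟶ X) [IsClosedImmersion a] (b : Zb ⟶ X)
    [IsClosedImmersion b] (M : EtCoh.Ab X) (hM : EtPBC.supp M ⊆ Set.range a ∪ Set.range b)
    (hz : ∀ i, i + 1 = q → IsZero ((E.T i).obj ((pp b).obj ((pp a).obj M))))
    (x : (E.T q).obj M) (ha : (E.T q).map (un a M) x = 0) (hb : (E.T q).map (un b M) x = 0) : x = 0 := by
  obtain ⟨y, hy⟩ := exists_kernel_lift q a M x ha
  have hsupp : EtPBC.supp (kernel (un a M)) ⊆ Set.range b := by
    intro v hv
    have h1 : v ∉ Set.range a := fun h => not_mem_supp_kernel a M v h hv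
    have h2 : v ∈ EtPBC.supp M := supp_subset_of_mono (kernel.ι (un a M)) hv
    exact (hM h2).resolve_left h1
  have h3 : IsIso (un b (kernel (un a M))) :=
    Groth.Agent.Etcore.IntUnivInj.isIso_unit_of_supp b _ hsupp
  have := epi_un a M
  have hS : (ShortComplex.mk (kernel.ι (un a M)) (un a M) (kernel.condition _)).ShortExact :=
    { exact := ShortComplex.exact_of_f_is_kernel _ (kernelIsKernel _) }
  have h4 : Mono ((E.T q).map ((pp b).map (kernel.ι (un a M)))) := by
    rcases q with _ | m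
    · have := hE.mono
      infer_instance
    · have := pp_pfc b
      exact mono_succ E (hS.map_of_exact (pp b)) m (hz m rfl)
  have h5 : (E.T q).map ((pp b).map (kernel.ι (un a M))) ((E.T q).map (un b (kernel (un a M))) y) = 0 := by
    rw [← hb, ← hy, ← ConcreteCategory.comp_apply, ← ConcreteCategory.comp_apply, ← Functor.map_comp,
      ← Functor.map_comp]
    have h6 : un b (kernel (un a M)) ≫ (pp b).map (kernel.ι (un a M)) = kernel.ι (un a M) ≫ un b M :=
      ((pullPushAdj b).unit.naturality _).symm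
    rw [h6]
  have h7 : Function.Injective ((E.T q).map ((pp b).map (kernel.ι (un a M)))) :=
    (AddCommGrpCat.mono_iff_injective _).1 h4
  have h8 : (E.T q).map (un b (kernel (un a M))) y = 0 := h7 (h5.trans (map_zero _).symm)
  have h9 : Function.Injective ((E.T q).map (un b (kernel (un a M)))) :=
    (ConcreteCategory.bijective_of_isIso _).1
  have h10 : y = 0 := h9 (h8.trans (map_zero _).symm)
  rw [← hy, h10]
  exact map_zero _

include hE in
theorem exists_prime (hV : Van f E G q) (hne : ¬ IsZero ((E.T q).obj G)) :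
    ∃ I : Ideal B, I.IsPrime ∧ ∀ {T₁ Y₁ : Scheme.{u}} (t₁ : T₁ ⟶ Spec (CommRingCat.of (B ⧸ I)))
      [IsIntegralHom t₁] [Surjective t₁] (π : Y₁ ⟶ X) (r₁ : Y₁ ⟶ T₁), IsPullback π r₁ f (t₁ ≫ cl I) →
      ¬ IsZero ((E.T q).obj ((pp π).obj G)) := by
  have h1 : ∃ ξ : (E.T q).obj G, ξ ≠ 0 := by
    by_contra h
    rw [not_exists] at h
    simp only [not_not] at h
    have : Subsingleton ((E.T q).obj G) := ⟨fun a b => (h a).trans (h b).symm⟩
    exact hne (AddCommGrpCat.isZero_of_subsingleton _)
  obtain ⟨ξ, hξ⟩ := h1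
  obtain ⟨I, hI, hmax⟩ := exists_maximal f hE G q ξ hξ
  have hVI : Van f E ((pp (zI f I)).obj G) q := Van.pp hV (cl I) (zI f I) _ (isPullback_zI f I)
  -- restrictions to smaller ideals vanish
  have hsmall : ∀ J, I < J → (E.T q).map (un (zI f J) ((pp (zI f I)).obj G)) (rs f G q ξ I) = 0 := by
    intro J hJ
    have h2 : un (zI f I) G ≫ un (zI f J) ((pp (zI f I)).obj G) =
        un (zI f J) G ≫ (pp (zI f J)).map (un (zI f I) G) := (pullPushAdj (zI f J)).unit.naturality _
    have h3 := congrArg (fun φ => (ConcreteCategory.hom ((E.T q).map φ)) ξ) h2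
    simp only [Functor.map_comp, ConcreteCategory.comp_apply] at h3
    refine h3.trans ?_
    have h4 := hmax J hJ
    rw [rs] at h4
    rw [h4]
    exact map_zero _
  refine ⟨I, ?_, ?_⟩
  · refine ⟨?_, ?_⟩
    · rintro rfl
      have : IsEmpty ↥(pullback f (cl (⊤ : Ideal B))) := ⟨fun x => by
        have h2 := (mem_range_zI f ⊤ (zI f ⊤ x)).1 ⟨x, rfl⟩
        exact (f (zI f ⊤ x) : PrimeSpectrum B).isPrime.ne_top (top_le_iff.1 h2)⟩
      have h3 := (E.T q).map_isZero (isZero_pp_of_isEmpty (zI f ⊤) G)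
      have h4 := AddCommGrpCat.subsingleton_of_isZero h3
      exact hI (Subsingleton.elim _ _)
    · intro a b hab
      by_contra hcon
      rw [not_or] at hcon
      obtain ⟨ha, hb⟩ := hcon
      have hlt : ∀ c, c ∉ I → I < I ⊔ Ideal.span {c} := fun c hc =>
        left_lt_sup.2 (fun h => hc (h (Ideal.subset_span rfl)))
      refine hI (eq_zero_of_union hE q (zI f (I ⊔ Ideal.span {a})) (zI f (I ⊔ Ideal.span {b})) _ ?_ ?_ _
        (hsmall _ (hlt a ha)) (hsmall _ (hlt b hb)))
      · intro v hv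
        have h2 := Groth.Agent.Etcore.IntUnivInj.supp_push (zI f I) _ hv
        rw [mem_range_zI] at h2
        rcases ((f v : PrimeSpectrum B).isPrime.mem_or_mem (h2 hab)) with h | h
        · left
          rw [mem_range_zI]
          exact sup_le h2 ((Ideal.span_singleton_le_iff_mem _).2 h)
        · right
          rw [mem_range_zI]
          exact sup_le h2 ((Ideal.span_singleton_le_iff_mem _).2 h)
      · intro i hi
        exact hVI.pp_pp (cl _) _ _ (isPullback_zI f _) (cl _) _ _ (isPullback_zI f _) i (by omega)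
  · intro T₁ Y₁ t₁ _ _ π r₁ h hz
    have hP := isPullback_zI f I
    have hw : π ≫ f = (r₁ ≫ t₁) ≫ cl I := by rw [h.w, Category.assoc]
    have h2 : IsPullback (hP.lift π (r₁ ≫ t₁) hw) r₁ (pullback.snd f (cl I)) t₁ := by
      refine IsPullback.of_right ?_ (hP.lift_snd _ _ _) hP
      rw [hP.lift_fst]
      exact h
    have h3 := mono_unit_map q (pullback.snd f (cl I)) (res (zI f I) E) (Good.res (zI f I) hE).mono
      ((pull (zI f I)).obj G) (Van.res (zI f I) hV (cl I) _ hP) t₁ _ r₁ h2
    obtain ⟨e⟩ := nonempty_pp_comp (hP.lift π (r₁ ≫ t₁) hw) (zI f I) G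
    have h4 : IsZero ((E.T q).obj ((push (zI f I)).obj
        ((pp (hP.lift π (r₁ ≫ t₁) hw)).obj ((pull (zI f I)).obj G)))) := by
      refine IsZero.of_iso ?_ ((E.T q).mapIso e)
      rw [hP.lift_fst]
      exact hz
    have h5 : IsZero ((E.T q).obj ((pp (zI f I)).obj G)) := @IsZero.of_mono _ _ _ _ _ _ h3 h4
    have h6 := AddCommGrpCat.subsingleton_of_isZero h5
    exact hI (Subsingleton.elim _ _)

end Affine

section main

variable {R : Type u} [CommRing R] {X : Scheme.{u}} (f : X ⟶ Spec (CommRingCat.of R))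
  {E : DeltaFunctor (EtCoh.Ab X) AddCommGrpCat.{u + 1}} (hE : Good E) (F : EtCoh.Ab X)

/-- The morphism `Spec (integral closure of R in Ω) ⟶ Spec R`. -/
abbrev nm (R : Type u) [CommRing R] (Ω : Type u) [Field Ω] [Algebra R Ω] :
    Spec (CommRingCat.of (integralClosure R Ω)) ⟶ Spec (CommRingCat.of R) :=
  Spec.map (CommRingCat.ofHom (algebraMap R (integralClosure R Ω)))

include hE in
/-- **Vanishing for all integral base changes** from vanishing for the normalizations in separably closed fields. -/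
theorem van_of_sepClosed (hΩ : ∀ (Ω : Type u) [Field Ω] [IsSepClosed Ω] [Algebra R Ω] {Y : Scheme.{u}}
      (p : Y ⟶ X) (r : Y ⟶ Spec (CommRingCat.of (integralClosure R Ω))), IsPullback p r f (nm R Ω) →
      ∀ q, IsZero ((E.T q).obj ((pp p).obj F))) (q : ℕ) : Van f E F q := by
  induction q with
  | zero => intro _ _ _ _ _ _ _ i hi; omega
  | succ q ih =>
    intro T Y t _ p r h i hi
    rcases Nat.lt_succ_iff_lt_or_eq.1 hi with hi | rfl
    · exact ih t p r h i hi
    have hp : IsIntegralHom p := MorphismProperty.of_isPullback h.flip inferInstance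
    have hT : IsAffine T := isAffine_of_isAffineHom t
    by_contra hne
    -- `T = Spec B`
    let B : Type u := Γ(T, ⊤)
    obtain ⟨φ, hφ⟩ : ∃ φ : R →+* B, T.isoSpec.inv ≫ t = Spec.map (CommRingCat.ofHom φ) := by
      obtain ⟨ψ, hψ⟩ := Spec.map_surjective (T.isoSpec.inv ≫ t)
      exact ⟨ψ.hom, hψ.symm⟩
    have hint : IsIntegralHom (Spec.map (CommRingCat.ofHom φ)) := by rw [← hφ]; infer_instance
    have hφi : φ.IsIntegral := (IsIntegralHom.SpecMap_iff (φ := CommRingCat.ofHom φ)).1 hint
    have h1 : IsPullback p (r ≫ T.isoSpec.hom) f (Spec.map (CommRingCat.ofHom φ)) := by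
      refine h.of_iso (Iso.refl _) (Iso.refl _) T.isoSpec (Iso.refl _) (by simp) (by simp) (by simp) ?_
      rw [← hφ]
      simp
    obtain ⟨I, hI, hdom⟩ := exists_prime (r ≫ T.isoSpec.hom) (Good.res p hE) ((pull p).obj F) i
      (Van.res p ih (Spec.map (CommRingCat.ofHom φ)) _ h1) hne
    let L : Type u := AlgebraicClosure (FractionRing (B ⧸ I))
    let ψ : R →+* L := (algebraMap (B ⧸ I) L).comp ((Ideal.Quotient.mk I).comp φ)
    let _ : Algebra R L := ψ.toAlgebra
    let C := integralClosure R L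
    have hmem : ∀ b : B ⧸ I, algebraMap (B ⧸ I) L b ∈ C := by
      intro b
      obtain ⟨b, rfl⟩ := Ideal.Quotient.mk_surjective b
      obtain ⟨P, hP, h2⟩ := hφi b
      refine ⟨P, hP, ?_⟩
      have h3 := congrArg ((algebraMap (B ⧸ I) L).comp (Ideal.Quotient.mk I)) h2
      rw [Polynomial.hom_eval₂, map_zero] at h3
      exact h3
    let χ : B ⧸ I →+* C := (algebraMap (B ⧸ I) L).codRestrict C.toSubring hmem
    have hχ : χ.comp ((Ideal.Quotient.mk I).comp φ) = algebraMap R C := rfl
    have hχi : χ.IsIntegral := by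
      have h2 : (algebraMap R C).IsIntegral := algebraMap_isIntegral_iff.2 inferInstance
      rw [← hχ] at h2
      exact h2.tower_top _ _
    have hχj : Function.Injective χ := by
      intro a b hab
      have h2 : algebraMap (B ⧸ I) L a = algebraMap (B ⧸ I) L b := congrArg Subtype.val hab
      have h3 : Function.Injective (algebraMap (B ⧸ I) L) :=
        (algebraMap (FractionRing (B ⧸ I)) L).injective.comp (IsFractionRing.injective (B ⧸ I) (FractionRing (B ⧸ I)))
      exact h3 h2
    have hT1 : IsIntegralHom (Spec.map (CommRingCat.ofHom χ)) :=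
      (IsIntegralHom.SpecMap_iff (φ := CommRingCat.ofHom χ)).2 hχi
    have hT2 : Surjective (Spec.map (CommRingCat.ofHom χ)) := by
      refine ⟨?_⟩
      exact hχi.comap_surjective hχj
    have hP := IsPullback.of_hasPullback (r ≫ T.isoSpec.hom) (Spec.map (CommRingCat.ofHom χ) ≫ cl I)
    refine hdom (Spec.map (CommRingCat.ofHom χ)) _ _ hP ?_
    have h3 := (hP.flip.paste_vert h1.flip).flip
    have h4 : (Spec.map (CommRingCat.ofHom χ) ≫ cl I) ≫ Spec.map (CommRingCat.ofHom φ) = nm R L := by
      rw [← Spec.map_comp, ← Spec.map_comp]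
      rfl
    rw [h4] at h3
    obtain ⟨e⟩ := nonempty_pp_comp (pullback.fst (r ≫ T.isoSpec.hom)
      (Spec.map (CommRingCat.ofHom χ) ≫ cl I)) p F
    exact (hΩ L _ _ h3 i).of_iso ((E.T i).mapIso e)

end main

end K252.IntVan
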