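import Groth.Agent.SGA4h.K252.FinBC
import Groth.Agent.Sga4h.UlaGoodB867
import Groth.Agent.SGA4h.K557.IntSep
import Groth.Agent.S0254

/-!
# Cohomological properness from universal local acyclicity, finite base change and invariance of the geometric fibres

`S` affine, `f : X ⟶ S` qcqs universally locally acyclic relative to `F`, such that base change holds along finite
morphisms (`FB f F`), and such that the cohomology of geometric fibres is invariant under extensions of separably
closed fields (`FI f F`).  Then for every strictly henselian `C` and `Spec C ⟶ S` the restriction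
`H^q(X_C, F) → H^q(X_{κ(C)}, F)` is bijective (`cf_main`).
-/

set_option autoImplicit false
universe u
open CategoryTheory CategoryTheory.Limits AlgebraicGeometry Opposite IsLocalRing

noncomputable section

namespace K252.UlaBC

open EtCoh K252.HpTools K252.IntRel K252.IntVan K252.IntInj K252.IntMain K252.IntApp K252.IntLim K252.FinBC
  Groth.Agent.Etcore.HpullCalc Groth.Agent.Etcore K557.BcQ K557.WeakEt Groth.Agent.Etrest.StrictLoc
  Groth.Agent.Sga4h.UlaGood Groth.Agent.Sga1.UlaGeo SGA4h
open scoped Groth.Agent.Sga4B.EtAbInst Groth.Agent.Etcore.EtInst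

variable {X S : Scheme.{u}}

/-- Invariance of the cohomology of geometric fibres. -/
def FI (f : X ⟶ S) (F : EtCoh.Ab X) : Prop :=
  ∀ (Ω Ω' : Type u) [Field Ω] [IsSepClosed Ω] [Field Ω'] [IsSepClosed Ω'] (s : Spec (CommRingCat.of Ω) ⟶ S)
    (σ : Spec (CommRingCat.of Ω') ⟶ Spec (CommRingCat.of Ω)) {Y Y' : Scheme.{u}} (p : Y ⟶ X)
    (r : Y ⟶ Spec (CommRingCat.of Ω)) (_ : IsPullback p r f s) (k : Y' ⟶ Y)
    (r' : Y' ⟶ Spec (CommRingCat.of Ω')) (_ : IsPullback k r' r σ), HI k ((pull p).obj F)

theorem FI.baseChange {f : X ⟶ S} {F : EtCoh.Ab X} (hF : FI f F) {S' X' : Scheme.{u}} {g : S' ⟶ S}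
    {f' : X' ⟶ S'} {g' : X' ⟶ X} (h : IsPullback g' f' f g) : FI f' ((pull g').obj F) := by
  intro Ω Ω' _ _ _ _ s σ Y Y' p r hp k r' hk
  exact (HI.pull_pull rfl).2 (hF Ω Ω' (s ≫ g) σ (p ≫ g') r (hp.paste_horiz h) k r' hk)

section chase

/-- The chase: `D → K₀ → L`, `D → C → L`, `D → κ_D → κ_C`, `C → κ_C`.  `P → Spec D`. -/
theorem chase {D C K₀ L k₁ k₂ : Type u} [CommRing D] [CommRing C] [Field K₀] [IsSepClosed K₀] [Field L]
    [IsSepClosed L] [Field k₁] [IsSepClosed k₁] [Field k₂] [IsSepClosed k₂]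
    (δ : D →+* C) (a : D →+* K₀) (b : C →+* L) (c : K₀ →+* L) (h₁ : b.comp δ = c.comp a)
    (π₁ : D →+* k₁) (π₂ : C →+* k₂) (e : k₁ →+* k₂) (h₂ : π₂.comp δ = e.comp π₁)
    {P : Scheme.{u}} (r : P ⟶ Spec (CommRingCat.of D)) (F : EtCoh.Ab P) (hI : FI r F)
    (ga : HI (pullback.fst r (spm a)) F) (g₁ : HI (pullback.fst r (spm π₁)) F)
    (gb : ∀ {P' : Scheme.{u}} (p : P' ⟶ P) (r' : P' ⟶ Spec (CommRingCat.of C)) (_ : IsPullback p r' r (spm δ))
      {Q : Scheme.{u}} (m : Q ⟶ P') (n : Q ⟶ Spec (CommRingCat.of L)) (_ : IsPullback m n r' (spm b)),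
      HI m ((pull p).obj F))
    {P' : Scheme.{u}} (p : P' ⟶ P) (r' : P' ⟶ Spec (CommRingCat.of C)) (H : IsPullback p r' r (spm δ))
    {Q : Scheme.{u}} (m : Q ⟶ P') (n : Q ⟶ Spec (CommRingCat.of k₂)) (hm : IsPullback m n r' (spm π₂)) :
    HI m ((pull p).obj F) := by
  -- over `K₀` and `L`
  have A1 := IsPullback.of_hasPullback r (spm a)
  have A2 := IsPullback.of_hasPullback (pullback.snd r (spm a)) (spm c)
  have B1 := IsPullback.of_hasPullback r' (spm b)
  have hL1 : IsPullback (pullback.fst (pullback.snd r (spm a)) (spm c) ≫ pullback.fst r (spm a))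
      (pullback.snd (pullback.snd r (spm a)) (spm c)) r (spm (b.comp δ)) := by
    rw [h₁, spm_comp]
    exact A2.paste_horiz A1
  have hL2 : IsPullback (pullback.fst r' (spm b) ≫ p) (pullback.snd r' (spm b)) r (spm (b.comp δ)) := by
    rw [spm_comp]
    exact B1.paste_horiz H
  have q1 : HI (pullback.fst (pullback.snd r (spm a)) (spm c) ≫ pullback.fst r (spm a)) F :=
    HI.comp rfl ga (hI K₀ L (spm a) (spm c) _ _ A1 _ _ A2)
  have q2 : HI (pullback.fst r' (spm b) ≫ p) F :=
    HI.comp (hL2.isoIsPullback_hom_fst _ _ hL1) q1 (HI.of_isIso _ _)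
  have q3 : HI p F := HI.of_comp_right rfl (gb p r' H _ _ B1) q2
  -- over `k₁` and `k₂`
  have A3 := IsPullback.of_hasPullback r (spm π₁)
  have A4 := IsPullback.of_hasPullback (pullback.snd r (spm π₁)) (spm e)
  have hK1 : IsPullback (pullback.fst (pullback.snd r (spm π₁)) (spm e) ≫ pullback.fst r (spm π₁))
      (pullback.snd (pullback.snd r (spm π₁)) (spm e)) r (spm (π₂.comp δ)) := by
    rw [h₂, spm_comp]
    exact A4.paste_horiz A3
  have hK2 : IsPullback (m ≫ p) n r (spm (π₂.comp δ)) := by
    rw [spm_comp]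
    exact hm.paste_horiz H
  have q4 : HI (pullback.fst (pullback.snd r (spm π₁)) (spm e) ≫ pullback.fst r (spm π₁)) F :=
    HI.comp rfl g₁ (hI k₁ k₂ (spm π₁) (spm e) _ _ A3 _ _ A4)
  have q5 : HI (m ≫ p) F := HI.comp (hK2.isoIsPullback_hom_fst _ _ hK1) q4 (HI.of_isIso _ _)
  exact HI.of_comp_left rfl q3 q5

end chase

section alg

/-- The integral closure of `W` in the fraction field `L` of an integrally closed `C`, mapped to `C`. -/
theorem exists_lift {W C L : Type u} [CommRing W] [CommRing C] [IsDomain C] [IsIntegrallyClosed C] [Field L]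
    [Algebra C L] [IsFractionRing C L] [Algebra W L] (ψ : W →+* C) (hψ : (algebraMap C L).comp ψ = algebraMap W L) :
    ∃ j : integralClosure W L →+* C, (algebraMap C L).comp j = algebraMap (integralClosure W L) L ∧
      j.comp (algebraMap W (integralClosure W L)) = ψ := by
  have hinj : Function.Injective (algebraMap C L) := IsFractionRing.injective C L
  have hmem : ∀ x : integralClosure W L, ∃ y : C, algebraMap C L y = x := by
    intro x
    have hx : IsIntegral W (x : L) := x.2
    have hx' : IsIntegral C (x : L) := by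
      obtain ⟨p, hp, hpx⟩ := hx
      refine ⟨p.map ψ, hp.map ψ, ?_⟩
      rw [Polynomial.eval₂_map, hψ]
      exact hpx
    exact IsIntegrallyClosed.isIntegral_iff.1 hx'
  let e : C ≃+* (algebraMap C L).range := RingEquiv.ofBijective (algebraMap C L).rangeRestrict
    ⟨fun x y h => hinj (congrArg Subtype.val h), (algebraMap C L).rangeRestrict_surjective⟩
  let k : integralClosure W L →+* (algebraMap C L).range :=
    (algebraMap (integralClosure W L) L).codRestrict (algebraMap C L).range hmem
  have he : ∀ z, algebraMap C L (e.symm z) = z := fun z => congrArg Subtype.val (e.apply_symm_apply z)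
  have h1 : (algebraMap C L).comp (e.symm.toRingHom.comp k) = algebraMap (integralClosure W L) L := by
    ext x
    exact he (k x)
  refine ⟨e.symm.toRingHom.comp k, h1, ?_⟩
  apply RingHom.ext
  intro w
  apply hinj
  have h2 := congrArg (fun q : integralClosure W L →+* L => q (algebraMap W _ w)) h1
  exact h2.trans (congrArg (fun q : W →+* L => q w) hψ).symm

/-- The local ring of a normal domain `B` with separably closed fraction field at the image of the closed point under
`B → C`, `C` local. -/
theorem exists_local_data' (B : CommRingCat.{u}) [IsDomain B] [IsIntegrallyClosed B]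
    [IsSepClosed (FractionRing B)] {C : Type u} [CommRing C] [IsLocalRing C] (j : B →+* C) {L : Type u} [Field L]
    (l : C →+* L) (hl : Function.Injective (l.comp j)) :
    ∃ (D K₀ : Type u) (_ : CommRing D) (_ : IsDomain D) (_ : IsLocalRing D) (_ : IsIntegrallyClosed D)
      (_ : Field K₀) (_ : IsSepClosed K₀) (_ : Algebra D K₀) (_ : IsFractionRing D K₀)
      (σ : Spec (CommRingCat.of D) ⟶ Spec B) (δ : D →+* C) (c : K₀ →+* L), IsStrictLoc σ ∧
      IsLocalHom δ ∧ spm δ ≫ σ = Spec.map (CommRingCat.ofHom j) ∧ l.comp δ = c.comp (algebraMap D K₀) := by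
  let J : Spec (CommRingCat.of C) ⟶ Spec B := Spec.map (CommRingCat.ofHom j)
  let y : ↥(Spec B) := J (closedPoint C)
  obtain ⟨e, -⟩ := Groth.Agent.Sga4h.NormalCl.exists_iso_genPt' B (FractionRing B)
  have hK₀ : IsSepClosed (Spec B).functionField := Groth.Agent.Etrest.SHPoint.isSepClosed_of_ringEquiv e.symm
  obtain ⟨hσ, -⟩ := exists_stalk_data B (FractionRing B) y
  let δ : (Spec B).presheaf.stalk y →+* C := (Scheme.stalkClosedPointTo J).hom
  have hδ : Spec.map (Scheme.stalkClosedPointTo J) ≫ (Spec B).fromSpecStalk y = J :=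
    Scheme.Spec_stalkClosedPointTo_fromSpecStalk J
  have hδ' : StructureSheaf.toStalk B y ≫ Scheme.stalkClosedPointTo J = CommRingCat.ofHom j := by
    apply Spec.map_injective
    refine (Spec.map_comp _ _).trans ?_
    have h1 := Spec.fromSpecStalk_eq' B y
    exact (congrArg (fun z => Spec.map (Scheme.stalkClosedPointTo J) ≫ z) h1).symm.trans hδ
  let _ : Algebra B ((Spec B).presheaf.stalk y) := StructureSheaf.stalkAlgebra B y
  let 𝔮 : Ideal B := (show PrimeSpectrum B from y).asIdeal
  have h𝔮 : 𝔮.IsPrime := (show PrimeSpectrum B from y).isPrime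
  have hloc : IsLocalization.AtPrime ((Spec B).presheaf.stalk y) 𝔮 :=
    StructureSheaf.IsLocalization.to_stalk B y
  have hδj : ∀ b : B, δ (algebraMap B ((Spec B).presheaf.stalk y) b) = j b := fun b =>
    congrArg (fun z : B ⟶ CommRingCat.of C => z.hom b) hδ'
  have hinj : Function.Injective (l.comp δ) := by
    rw [injective_iff_map_eq_zero]
    intro x hx
    obtain ⟨⟨b, s⟩, hbs⟩ := IsLocalization.surj 𝔮.primeCompl x
    have h1 : (l.comp j) b = 0 := by
      have h2 : l (δ (x * algebraMap B ((Spec B).presheaf.stalk y) s)) =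
          l (δ (algebraMap B ((Spec B).presheaf.stalk y) b)) := congrArg (fun z => l (δ z)) hbs
      rw [map_mul, map_mul] at h2
      have h3 : l (δ x) = 0 := hx
      rw [h3, zero_mul, hδj] at h2
      exact h2.symm
    have h4 : b = 0 := (injective_iff_map_eq_zero _).1 hl b h1
    have h5 : x * algebraMap B ((Spec B).presheaf.stalk y) s = 0 := by
      rw [hbs]
      change algebraMap B ((Spec B).presheaf.stalk y) b = 0
      rw [h4, map_zero]
    exact (IsLocalization.map_units ((Spec B).presheaf.stalk y) s).mul_left_eq_zero.1 h5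
  refine ⟨(Spec B).presheaf.stalk y, (Spec B).functionField, inferInstance, inferInstance, inferInstance,
    Groth.Agent.Sga4h.NormalCl.isIntegrallyClosed_stalk' B y, inferInstance, hK₀, inferInstance, inferInstance,
    (Spec B).fromSpecStalk y, δ, IsFractionRing.lift (A := (Spec B).presheaf.stalk y)
      (K := (Spec B).functionField) (g := l.comp δ) hinj, hσ, Scheme.isLocalHom_stalkClosedPointTo J, hδ, ?_⟩
  ext x
  exact (IsFractionRing.lift_algebraMap (A := (Spec B).presheaf.stalk y)
      (K := (Spec B).functionField) (g := l.comp δ) hinj x).symm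

theorem exists_local_data (B : Type u) [CommRing B] [IsDomain B] [IsIntegrallyClosed B]
    [IsSepClosed (FractionRing B)] {C : Type u} [CommRing C] [IsLocalRing C] (j : B →+* C) {L : Type u} [Field L]
    (l : C →+* L) (hl : Function.Injective (l.comp j)) :
    ∃ (D K₀ : Type u) (_ : CommRing D) (_ : IsDomain D) (_ : IsLocalRing D) (_ : IsIntegrallyClosed D)
      (_ : Field K₀) (_ : IsSepClosed K₀) (_ : Algebra D K₀) (_ : IsFractionRing D K₀)
      (σ : Spec (CommRingCat.of D) ⟶ Spec (CommRingCat.of B)) (δ : D →+* C) (c : K₀ →+* L), IsStrictLoc σ ∧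
      IsLocalHom δ ∧ spm δ ≫ σ = spm j ∧ l.comp δ = c.comp (algebraMap D K₀) :=
  exists_local_data' (CommRingCat.of B) j l hl

end alg

section main

variable {W : Type u} [CommRing W]

/-- The case of a normal local domain with separably closed fraction field. -/
theorem cf_normal {f : X ⟶ Spec (CommRingCat.of W)} {F : EtCoh.Ab X} [QuasiCompact f] [QuasiSeparated f]
    (hU : IsULARel f F) (hB : FB f F) (hI : FI f F) {C : Type u} [CommRing C] [IsLocalRing C] [IsDomain C]
    [IsIntegrallyClosed C] [IsSepClosed (FractionRing C)] (γ : Spec (CommRingCat.of C) ⟶ Spec (CommRingCat.of W))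
    {P : Scheme.{u}} {a : P ⟶ X} {b : P ⟶ Spec (CommRingCat.of C)} (H : IsPullback a b f γ) :
    CF b ((pull a).obj F) := by
  obtain ⟨-, hκ⟩ := Groth.Agent.S0254.result C
  let ψ : W →+* C := (Spec.preimage γ).hom
  have hγ : γ = spm ψ := (Spec.map_preimage γ).symm
  let L := FractionRing C
  let _ : Algebra W L := ((algebraMap C L).comp ψ).toAlgebra
  let B := integralClosure W L
  obtain ⟨j, hj1, hj2⟩ := exists_lift (L := L) ψ rfl
  have hBc : IsIntegrallyClosed B := K557.IntSep.isIntegrallyClosed W L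
  have hBs : IsSepClosed (FractionRing B) := K557.IntSep.isSepClosed W L
  let T := Spec (CommRingCat.of B)
  let t : T ⟶ Spec (CommRingCat.of W) := spm (algebraMap W B)
  have hti : IsIntegralHom t :=
    (IsIntegralHom.SpecMap_iff (φ := CommRingCat.ofHom (algebraMap W B))).2
      (algebraMap_isIntegral_iff.2 inferInstance)
  let J : Spec (CommRingCat.of C) ⟶ T := spm j
  have hJt : J ≫ t = γ := by
    rw [hγ, ← hj2, spm_comp]
  obtain ⟨D, K₀, _, _, _, _, _, _, _, _, σ, δ, c, hσ, hδl, hδ, h₁⟩ := exists_local_data B j (algebraMap C L) (by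
    rw [hj1]
    exact Subtype.val_injective)
  have hDs : IsSepClosed (ResidueField D) := hσ.sepClosed
  have h₂ : (residue C).comp δ = (ResidueField.map δ).comp (residue D) :=
    (ResidueField.map_comp_residue δ).symm
  -- base changes
  have HT := IsPullback.of_hasPullback f t
  have HD := IsPullback.of_hasPullback (pullback.snd f t) σ
  have i1 : QuasiCompact (pullback.snd f t) := MorphismProperty.of_isPullback HT ‹_›
  have i2 : QuasiSeparated (pullback.snd f t) := MorphismProperty.of_isPullback HT ‹_›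
  let F_T : EtCoh.Ab (pullback f t) := (pull (pullback.fst f t)).obj F
  let F_D := (pull (pullback.fst (pullback.snd f t) σ)).obj F_T
  have hUD : IsULARel (pullback.snd (pullback.snd f t) σ) F_D :=
    Groth.Agent.Sga4h.UlaRed.isULARel_baseChange (Groth.Agent.Sga4h.UlaRed.isULARel_baseChange hU HT) HD
  have hID : FI (pullback.snd (pullback.snd f t) σ) F_D := (hI.baseChange HT).baseChange HD
  have hCF : CF (R := D) (pullback.snd (pullback.snd f t) σ) F_D :=
    cf_of_fb (hB.ib.baseChange t HT).fb hσ HD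
  have w₁ : a ≫ f = (b ≫ J) ≫ t := by rw [Category.assoc, hJt]; exact H.w
  have HJ : IsPullback (HT.lift a (b ≫ J) w₁) b (pullback.snd f t) J := by
    refine IsPullback.of_right ?_ (HT.lift_snd _ _ _) HT
    rw [HT.lift_fst, hJt]
    exact H
  have w₂ : HT.lift a (b ≫ J) w₁ ≫ pullback.snd f t = (b ≫ spm δ) ≫ σ := by
    rw [Category.assoc, hδ]
    exact HJ.w
  have Hδ : IsPullback (HD.lift (HT.lift a (b ≫ J) w₁) (b ≫ spm δ) w₂) b
      (pullback.snd (pullback.snd f t) σ) (spm δ) := by
    refine IsPullback.of_right ?_ (HD.lift_snd _ _ _) HD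
    rw [HD.lift_fst, hδ]
    exact HJ
  intro W' i c' hi
  have key := chase δ (algebraMap D K₀) (algebraMap C L) c h₁ (residue D) (residue C) (ResidueField.map δ) h₂
    (pullback.snd (pullback.snd f t) σ) F_D hID
    (hi_generic D K₀ _ F_D (fun z => Groth.Agent.Sga4h.UlaRed.lAt_of_isULARel hUD z) (IsPullback.of_hasPullback _ _))
    (fun q => hCF _ _ (IsPullback.of_hasPullback _ _) q)
    (fun {_} p r' sq {_} m n sq' => hi_generic C L r' _
      (fun z => Groth.Agent.Sga4h.UlaRed.isULARel_iff.1 hUD _ _ (spm δ) r' p sq z) sq')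
    _ b Hδ i c' hi
  have k1 : (HD.lift (HT.lift a (b ≫ J) w₁) (b ≫ spm δ) w₂) ≫
      pullback.fst (pullback.snd f t) σ = HT.lift a (b ≫ J) w₁ := HD.lift_fst _ _ _
  have k2 : HT.lift a (b ≫ J) w₁ ≫ pullback.fst f t = a := HT.lift_fst _ _ _
  exact (HI.pull_pull k2).1 ((HI.pull_pull k1).1 key)

/-- **Main theorem**: restriction to the closed fibre over a strictly henselian ring. -/
theorem cf_main {f : X ⟶ Spec (CommRingCat.of W)} {F : EtCoh.Ab X} [QuasiCompact f] [QuasiSeparated f]
    (hU : IsULARel f F) (hB : FB f F) (hI : FI f F) {C : Type u} [CommRing C] [HenselianLocalRing C]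
    [IsSepClosed (ResidueField C)] (γ : Spec (CommRingCat.of C) ⟶ Spec (CommRingCat.of W))
    {P : Scheme.{u}} {a : P ⟶ X} {b : P ⟶ Spec (CommRingCat.of C)} (H : IsPullback a b f γ) :
    CF b ((pull a).obj F) := by
  have i1 : QuasiCompact b := MorphismProperty.of_isPullback H ‹_›
  have i2 : QuasiSeparated b := MorphismProperty.of_isPullback H ‹_›
  have key : CF (b ≫ 𝟙 _) ((pull (𝟙 P)).obj ((pull a).obj F)) := by
    refine cf_of_sepClosed b ((pull a).obj F) ?_ (𝟙 _) (𝟙 P) b (IsPullback.of_horiz_isIso ⟨by simp⟩)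
    intro Ω _ _ _ Y p r h
    have hC : Algebra.IsIntegral C (integralClosure C Ω) := inferInstance
    have hl : IsLocalRing (integralClosure C Ω) :=
      Groth.Agent.S0427.isLocalRing_of_isIntegral C (integralClosure C Ω)
    have hint : (algebraMap C (integralClosure C Ω)).IsIntegral := algebraMap_isIntegral_iff.2 hC
    have hBc : IsIntegrallyClosed (integralClosure C Ω) := K557.IntSep.isIntegrallyClosed C Ω
    have hBs : IsSepClosed (FractionRing (integralClosure C Ω)) := K557.IntSep.isSepClosed C Ω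
    have H1 : IsPullback (p ≫ a) r f (nm C Ω ≫ γ) := (h.flip.paste_vert H.flip).flip
    have h1 : CF r ((pull (p ≫ a)).obj F) := cf_normal hU hB hI (nm C Ω ≫ γ) H1
    have h2 : CF r ((pull p).obj ((pull a).obj F)) := h1.congr_sheaf ((EtCore.pullComp p a).app F)
    exact (cf_iff_of_local (algebraMap C (integralClosure C Ω)) hint (kp (integralClosure C Ω)) r _).2
      (fun q => h2 _ _ (IsPullback.of_hasPullback _ _) q)
  rw [Category.comp_id] at key
  obtain ⟨e⟩ := Groth.Agent.Sga4h.H961.NNRR.nonempty_pull_id ((pull a).obj F)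
  exact key.congr_sheaf e

end main

end K252.UlaBC
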